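import Groth.Agent.EGA2.K38.Colim
import Groth.Agent.Fdesc.LocGen
import Groth.Agent.S0824
import Groth.Agent.LoccohA.TDColim
import Groth.Agent.CohqB.HSeqMod
import Mathlib.Algebra.DirectSum.Basic
import Mathlib.Algebra.Group.Subgroup.Finsupp

/-!
# Direct sum decompositions of modules, checked on a basis of affine opens; cohomology of such direct sums
-/

set_option autoImplicit false
universe u

open CategoryTheory CategoryTheory.Limits AlgebraicGeometry Opposite TopologicalSpace

noncomputable section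

namespace Groth.Agent.Cone.K859.Dec

open Groth.Agent.Fdesc.LocGen Groth.Agent.CohqB.HSeqMod

/-- The elements of a coproduct of abelian groups are finite sums. -/
theorem exists_sum {J : Type u} {G : J → Ab.{u}} {c : Cofan G} (hc : IsColimit c) (x : c.pt) :
    ∃ (s : Finset J) (y : ∀ j, G j), x = ∑ j ∈ s, c.inj j (y j) := by
  classical
  let S : J → AddSubgroup c.pt := fun j => (c.inj j).hom.range
  have htop : (⨆ j, S j) = ⊤ := by
    let π : c.pt ⟶ AddCommGrpCat.of (c.pt ⧸ (⨆ j, S j)) := AddCommGrpCat.ofHom (QuotientAddGroup.mk' _)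
    have h0 : π = 0 := by
      apply Cofan.IsColimit.hom_ext hc
      intro j
      rw [comp_zero]
      ext y
      change (QuotientAddGroup.mk' (⨆ j, S j)) (c.inj j y) = 0
      rw [QuotientAddGroup.mk'_apply, QuotientAddGroup.eq_zero_iff]
      exact (le_iSup S j) ⟨y, rfl⟩
    rw [eq_top_iff]
    intro z _
    have h1 : π z = 0 := by rw [h0]; rfl
    exact (QuotientAddGroup.eq_zero_iff z).1 h1
  have hx : x ∈ ⨆ j, S j := htop ▸ AddSubgroup.mem_top x
  refine AddSubgroup.iSup_induction S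
    (C := fun x => ∃ (s : Finset J) (y : ∀ j, G j), x = ∑ j ∈ s, c.inj j (y j)) hx ?_ ?_ ?_
  · rintro j _ ⟨y, rfl⟩
    refine ⟨{j}, Function.update (fun _ => 0) j y, ?_⟩
    rw [Finset.sum_singleton, Function.update_self]
  · exact ⟨∅, fun _ => 0, by simp⟩
  · rintro _ _ ⟨s, y, rfl⟩ ⟨t, w, rfl⟩
    refine ⟨s ∪ t, fun j => (if j ∈ s then y j else 0) + (if j ∈ t then w j else 0), ?_⟩
    have h1 : ∑ j ∈ s, c.inj j (y j) = ∑ j ∈ s ∪ t, c.inj j (if j ∈ s then y j else 0) := by
      rw [← Finset.sum_subset Finset.subset_union_left (f := fun j => c.inj j (if j ∈ s then y j else 0))]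
      · exact Finset.sum_congr rfl fun j hj => by rw [if_pos hj]
      · intro j _ hj
        rw [if_neg hj, map_zero]
    have h2 : ∑ j ∈ t, c.inj j (w j) = ∑ j ∈ s ∪ t, c.inj j (if j ∈ t then w j else 0) := by
      rw [← Finset.sum_subset Finset.subset_union_right (f := fun j => c.inj j (if j ∈ t then w j else 0))]
      · exact Finset.sum_congr rfl fun j hj => by rw [if_pos hj]
      · intro j _ hj
        rw [if_neg hj, map_zero]
    rw [h1, h2, ← Finset.sum_add_distrib]
    exact Finset.sum_congr rfl fun j _ => (map_add _ _ _).symm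

/-- A map from a coproduct of abelian groups which is a direct sum decomposition is an isomorphism. -/
theorem isIso_of_dec {J : Type u} {G : J → Ab.{u}} {c : Cofan G} (hc : IsColimit c) {F : Ab.{u}} (ψ : c.pt ⟶ F)
    (hs : ∀ x : F, ∃ (s : Finset J) (y : ∀ j, G j), x = ∑ j ∈ s, ψ (c.inj j (y j)))
    (hi : ∀ (s : Finset J) (y : ∀ j, G j), ∑ j ∈ s, ψ (c.inj j (y j)) = 0 → ∀ j ∈ s, y j = 0) : IsIso ψ := by
  rw [ConcreteCategory.isIso_iff_bijective]
  constructor
  · rw [injective_iff_map_eq_zero]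
    intro x hx
    obtain ⟨s, y, rfl⟩ := exists_sum hc x
    rw [map_sum] at hx
    exact Finset.sum_eq_zero fun j hj => by rw [hi s y hx j hj, map_zero]
  · intro x
    obtain ⟨s, y, rfl⟩ := hs x
    exact ⟨∑ j ∈ s, c.inj j (y j), map_sum _ _ _⟩

variable {X : Scheme.{u}}

theorem isIso_of_basis {ι : Type*} (B : ι → X.Opens) (hB : Opens.IsBasis (Set.range B)) {M N : X.Modules} (φ : M ⟶ N)
    (h : ∀ i, IsIso ((K38.Colim.sec (B i)).map φ)) : IsIso φ := by
  rw [← isIso_iff_of_reflects_iso _ (Scheme.Modules.toPresheaf X)]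
  let F : TopCat.Sheaf Ab.{u} X := ⟨M.presheaf, M.isSheaf⟩
  let G : TopCat.Sheaf Ab.{u} X := ⟨N.presheaf, N.isSheaf⟩
  let ψ : F ⟶ G := ⟨φ.mapPresheaf⟩
  have : IsIso ψ := TopCat.Sheaf.isIso_iff_isIso_basis (B := B) hB (φ := ψ) fun i ↦ h i
  exact @Functor.map_isIso _ _ _ _ _ _ (TopCat.Sheaf.forget Ab.{u} X) ψ this

/-- **Direct sum decompositions can be checked on a basis of affine opens.** -/
theorem isIso_desc {J : Type u} (N : J → X.Modules) (hN : ∀ j, Coh.IsQCoh (N j)) {F : X.Modules}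
    (φ : ∀ j, N j ⟶ F) {ι : Type*} (B : ι → X.Opens) (hB : Opens.IsBasis (Set.range B))
    (hA : ∀ i, IsAffineOpen (B i))
    (hs : ∀ (i : ι) (x : Γ(F, B i)), ∃ (s : Finset J) (y : ∀ j, Γ(N j, B i)), x = ∑ j ∈ s, (φ j).app (B i) (y j))
    (hi : ∀ (i : ι) (s : Finset J) (y : ∀ j, Γ(N j, B i)),
      ∑ j ∈ s, (φ j).app (B i) (y j) = 0 → ∀ j ∈ s, y j = 0) : IsIso (Sigma.desc φ) := by
  refine isIso_of_basis B hB _ fun i => ?_
  have h1 : PreservesColimit (Discrete.functor N) (K38.Colim.sec (B i)) :=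
    K38.Colim.preservesColimit_sec (hA i) (Discrete.functor N) (fun j => hN j.as)
  let c : Cofan (fun j => (K38.Colim.sec (B i)).obj (N j)) :=
    Cofan.mk ((K38.Colim.sec (B i)).obj (∐ N)) (fun j => (K38.Colim.sec (B i)).map (Sigma.ι N j))
  have hc : IsColimit c := isColimitOfHasCoproductOfPreservesColimit (K38.Colim.sec (B i)) N
  have key : ∀ (j : J) (y : Γ(N j, B i)),
      ((K38.Colim.sec (B i)).map (Sigma.desc φ)) (c.inj j y) = (φ j).app (B i) y := by
    intro j y
    have h2 : (K38.Colim.sec (B i)).map (Sigma.ι N j) ≫ (K38.Colim.sec (B i)).map (Sigma.desc φ) =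
        (K38.Colim.sec (B i)).map (φ j) := by
      rw [← Functor.map_comp, Sigma.ι_desc]
    exact congr($h2 y)
  refine isIso_of_dec hc _ (fun x => ?_) (fun s y h => ?_)
  · obtain ⟨s, y, hx⟩ := hs i x
    refine ⟨s, y, hx.trans (Finset.sum_congr rfl fun j _ => (key j (y j)).symm)⟩
  · refine hi i s y ((Finset.sum_congr rfl fun j _ => (key j (y j)).symm).trans h)

/-- Cohomology of an infinite direct sum vanishes as soon as that of the summands does. -/
theorem subsingleton_HH_sigma [CompactSpace X] [QuasiSeparatedSpace X] {J : Type u} (M : J → X.Modules) (d : ℕ)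
    (h : ∀ j, Subsingleton (Coh.HH X (M j) d)) : Subsingleton (Coh.HH X (∐ M) d) := by
  refine ⟨fun x x' => ?_⟩
  have key : ∀ x : Coh.HH X (∐ M) d, x = 0 := by
    intro x
    obtain ⟨S, y, rfl⟩ := Groth.Agent.LoccohA.TDColim.exists_finset_sigma M d x
    have h1 : Subsingleton (Coh.HH X (∐ fun s : {s // s ∈ S} => M s.1.as) d) :=
      Groth.Agent.VarietyA.AmpleNegPow.subsingleton_HH_coprod _ d fun s => h s.1.as
    have h2 : y = 0 := Subsingleton.elim y 0
    rw [h2]
    exact map_zero (hmap (Sigma.desc fun s : {s // s ∈ S} => Sigma.ι M s.1.as) d)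
  rw [key x, key x']

/-- Cohomology of a retract. -/
theorem subsingleton_HH_of_retract {M N : X.Modules} (i : M ⟶ N) (r : N ⟶ M) (hir : i ≫ r = 𝟙 M) (d : ℕ)
    (h : Subsingleton (Coh.HH X N d)) : Subsingleton (Coh.HH X M d) := by
  refine ⟨fun x x' => ?_⟩
  have key : ∀ x : Coh.HH X M d, x = 0 := by
    intro x
    have h1 : hmap r d (hmap i d x) = x := by
      rw [← hmap_comp_apply, hir, hmap_id_apply]
    rw [← h1, Subsingleton.elim (hmap i d x) 0, map_zero]
  rw [key x, key x']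

theorem subsingleton_HH_iff_of_iso {M N : X.Modules} (e : M ≅ N) (d : ℕ) :
    Subsingleton (Coh.HH X M d) ↔ Subsingleton (Coh.HH X N d) :=
  ⟨subsingleton_HH_of_retract e.inv e.hom e.inv_hom_id d, subsingleton_HH_of_retract e.hom e.inv e.hom_inv_id d⟩

/-- Cohomology of an infinite direct sum vanishes exactly when that of the summands does. -/
theorem subsingleton_HH_sigma_iff [CompactSpace X] [QuasiSeparatedSpace X] {J : Type u} (M : J → X.Modules) (d : ℕ) :
    Subsingleton (Coh.HH X (∐ M) d) ↔ ∀ j, Subsingleton (Coh.HH X (M j) d) := by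
  classical
  refine ⟨fun h j => ?_, subsingleton_HH_sigma M d⟩
  refine subsingleton_HH_of_retract (Sigma.ι M j)
    (Sigma.desc fun j' => if h : j' = j then eqToHom (congrArg M h) else 0) ?_ d h
  rw [Sigma.ι_desc, dif_pos rfl, eqToHom_refl]

/-- **Cohomology of a module with a direct sum decomposition.** -/
theorem subsingleton_HH_iff_of_dec [CompactSpace X] [QuasiSeparatedSpace X] {J : Type u} (N : J → X.Modules)
    (hN : ∀ j, Coh.IsQCoh (N j)) {F : X.Modules}
    (φ : ∀ j, N j ⟶ F) {ι : Type*} (B : ι → X.Opens) (hB : Opens.IsBasis (Set.range B))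
    (hA : ∀ i, IsAffineOpen (B i))
    (hs : ∀ (i : ι) (x : Γ(F, B i)), ∃ (s : Finset J) (y : ∀ j, Γ(N j, B i)), x = ∑ j ∈ s, (φ j).app (B i) (y j))
    (hi : ∀ (i : ι) (s : Finset J) (y : ∀ j, Γ(N j, B i)),
      ∑ j ∈ s, (φ j).app (B i) (y j) = 0 → ∀ j ∈ s, y j = 0) (d : ℕ) :
    Subsingleton (Coh.HH X F d) ↔ ∀ j, Subsingleton (Coh.HH X (N j) d) := by
  have := isIso_desc N hN φ B hB hA hs hi
  rw [← subsingleton_HH_iff_of_iso (asIso (Sigma.desc φ)) d]
  exact subsingleton_HH_sigma_iff N d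

end Groth.Agent.Cone.K859.Dec

end
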