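import Groth.Agent.S0356
import Groth.Agent.Localalg.DepthLC
import Groth.Agent.QGor.K967.DepthKit
import Groth.Agent.Formal2.K575.DepthSelf
import Groth.Agent.CalgA.SerreLocal
import Groth.Agent.LoccohB.CMSch
import Groth.Agent.Dcoh.Restrict
import Groth.Agent.Cone.K859.Dec

/-!
# Cohen–Macaulayness at a maximal ideal and cohomology of the punctured spectrum
-/

set_option autoImplicit false
universe u

open CategoryTheory CategoryTheory.Limits AlgebraicGeometry Opposite TopologicalSpace

noncomputable section

namespace Groth.Agent.Cone.K859.Cm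

/-- `n ≤ depth_I N` iff the local cohomology vanishes below `n`. -/
theorem le_idealDepth_iff_H {R : Type u} [CommRing R] [IsNoetherianRing R] (I : Ideal R) (N : Type u)
    [AddCommGroup N] [Module R N] [Module.Finite R N] (n : ℕ) :
    (∀ i : ℕ, i < n → Subsingleton (LocCoh.H I i N)) ↔ (n : ℕ∞) ≤ LocCoh.idealDepth I N := by
  constructor
  · intro h
    by_contra hlt
    rw [not_le] at hlt
    obtain ⟨d, hd⟩ := ENat.ne_top_iff_exists.1 (ne_top_of_lt hlt)
    rw [← hd] at hlt
    have h1 : d < n := by exact_mod_cast hlt
    have h2 := Groth.Agent.Localalg.DepthLC.nontrivial_H_idealDepth I N d hd.symm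
    exact not_subsingleton_iff_nontrivial.2 h2 (h d h1)
  · intro h i hi
    exact Groth.Agent.Localalg.DepthLC.subsingleton_H_of_lt_idealDepth I N i
      (lt_of_lt_of_le (by exact_mod_cast hi) h)

variable {R : Type u} [CommRing R] [IsNoetherianRing R]

theorem le_idealDepth_iff_maximal (m : Ideal R) [m.IsMaximal] (n : ℕ) :
    (n : ℕ∞) ≤ LocCoh.idealDepth m R ↔
      (n : ℕ∞) ≤ LocCoh.depth (Localization.AtPrime m) (Localization.AtPrime m) := by
  rw [K967.DepthKit.natCast_le_idealDepth_iff_forall, ← K575.depth_locSelf]
  constructor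
  · intro h
    exact h m le_rfl
  · intro h p hp hmp
    obtain rfl : m = p := Ideal.IsMaximal.eq_of_le inferInstance hp.ne_top hmp
    exact h

theorem isCM_iff_le_depth {A : Type u} [CommRing A] [IsNoetherianRing A] [IsLocalRing A] (n : ℕ)
    (hn : ringKrullDim A = n) : LocCoh.IsCohenMacaulayLocalRing A ↔ (n : ℕ∞) ≤ LocCoh.depth A A := by
  constructor
  · intro h
    have h1 := h.supportDim_eq_depth
    rw [Module.supportDim_self_eq_ringKrullDim, hn] at h1
    have h2 : ((n : ℕ∞) : WithBot ℕ∞) = ((LocCoh.depth A A : ℕ∞) : WithBot ℕ∞) := h1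
    exact (WithBot.coe_injective h2).le
  · intro h
    refine { supportDim_eq_depth := le_antisymm ?_ ?_ }
    · rw [Module.supportDim_self_eq_ringKrullDim, hn]
      have h2 : ((n : ℕ∞) : WithBot ℕ∞) ≤ ((LocCoh.depth A A : ℕ∞) : WithBot ℕ∞) := WithBot.coe_le_coe.2 h
      exact h2
    · exact Groth.Agent.Localalg.Depth2.depth_le_supportDim A

/-- The structure module of the punctured spectrum. -/
def restrictIso (U : (Spec (CommRingCat.of R)).Opens) :
    (AlgebraicGeometry.tilde (R := CommRingCat.of R) (ModuleCat.of R R)).restrict U.ι ≅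
      Coh.structureModule (U : Scheme.{u}) :=
  Groth.Agent.Dcoh.Restrict.restrictUnit (X := Spec (CommRingCat.of R)) U.ι

theorem subsingleton_H_iff (m : Ideal R) (p : ℕ) (hp : 1 ≤ p) :
    Subsingleton (LocCoh.H m (p + 1) R) ↔
      Subsingleton (Coh.HH (LocCoh.puncturedOpen R m : Scheme.{u})
        (Coh.structureModule (LocCoh.puncturedOpen R m : Scheme.{u})) p) := by
  obtain ⟨e⟩ := Groth.Agent.S0356.result R m R p hp
  rw [← e.toEquiv.subsingleton_congr]
  exact Dec.subsingleton_HH_iff_of_iso (restrictIso _) p

/-- **Cohen–Macaulayness at a maximal ideal of a normal domain** of positive dimension. -/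
theorem isCM_iff [IsDomain R] (m : Ideal R) [m.IsMaximal] (n : ℕ)
    (hdim : ringKrullDim (Localization.AtPrime m) = ((n + 1 : ℕ) : WithBot ℕ∞))
    (hnorm : IsIntegrallyClosed (Localization.AtPrime m)) :
    LocCoh.IsCohenMacaulayLocalRing (Localization.AtPrime m) ↔
      ∀ i : ℕ, 1 ≤ i → i + 1 ≤ n → Subsingleton (Coh.HH (LocCoh.puncturedOpen R m : Scheme.{u})
        (Coh.structureModule (LocCoh.puncturedOpen R m : Scheme.{u})) i) := by
  rw [isCM_iff_le_depth (n + 1) (by rw [hdim]), ← le_idealDepth_iff_maximal, ← le_idealDepth_iff_H]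
  constructor
  · intro h i hi hin
    exact (subsingleton_H_iff m i hi).1 (h (i + 1) (by omega))
  · intro h i hi
    by_cases h2 : 2 ≤ i
    · obtain ⟨p, rfl⟩ : ∃ p, i = p + 1 := ⟨i - 1, by omega⟩
      exact (subsingleton_H_iff m p (by omega)).2 (h p (by omega) (by omega))
    · have hdom : IsDomain (Localization.AtPrime m) :=
        IsLocalization.isDomain_localization m.primeCompl_le_nonZeroDivisors
      -- depth at least `min 2 (n + 1)`
      have key : ((i + 1 : ℕ) : ℕ∞) ≤ LocCoh.idealDepth m R := by
        rw [le_idealDepth_iff_maximal]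
        by_cases hn : n = 0
        · subst hn
          obtain rfl : i = 0 := by omega
          refine (K967.DepthKit.one_le_iff_forall_eq_zero (I := IsLocalRing.maximalIdeal (Localization.AtPrime m))
            (Localization.AtPrime m)).2 fun x hx => ?_
          have h4 : ¬ IsField (Localization.AtPrime m) := by
            intro hf
            rw [ringKrullDim_eq_zero_of_isField hf] at hdim
            exact absurd hdim (by decide)
          obtain ⟨a, ha, ha0⟩ := Submodule.exists_mem_ne_zero_of_ne_bot
            (mt IsLocalRing.isField_iff_maximalIdeal_eq.2 h4)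
          exact (smul_eq_zero.1 (hx a ha)).resolve_left ha0
        · have h3 : (2 : ℕ∞) ≤ LocCoh.depth (Localization.AtPrime m) (Localization.AtPrime m) := by
            refine Groth.Agent.CalgA.SerreLocal.two_le_depth_of_isIntegrallyClosed ?_
            rw [hdim, not_le]
            have : 1 < n + 1 := by omega
            exact_mod_cast this
          refine le_trans ?_ h3
          have : i + 1 ≤ 2 := by omega
          exact_mod_cast this
      exact (le_idealDepth_iff_H m R (i + 1)).2 key i (by omega)

end Groth.Agent.Cone.K859.Cm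

end
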