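import Groth.Agent.Cone.K859.Geo
import Groth.Agent.CycA.ProdDim
import Groth.Agent.Localalg.VanSlice
import Groth.Agent.Localalg.BlowBoundary2
import Mathlib.RingTheory.KrullDimension.Polynomial

/-!
# The dimension of a line bundle and of its affine cone
-/

set_option autoImplicit false
universe u

open CategoryTheory CategoryTheory.Limits AlgebraicGeometry Opposite TopologicalSpace

noncomputable section

namespace Groth.Agent.Cone.K859.Dim

open Groth.Agent.Fdesc.LocGen K30.LBdl

theorem dim_affine {X : Scheme.{u}} {U : X.Opens} (hU : IsAffineOpen U) :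
    topologicalKrullDim (U : Scheme.{u}) = ringKrullDim Γ(X, U) := by
  rw [← PrimeSpectrum.topologicalKrullDim_eq_ringKrullDim]
  exact IsHomeomorph.topologicalKrullDim_eq _ hU.isoSpec.hom.homeomorph.isHomeomorph

variable {X V : Scheme.{u}} {L : X.Modules} {π : V ⟶ X} {j : X ⟶ V} (B : LineBdl L π j)

include B in
theorem dim_lineBdl {k : Type u} [Field k] (f : X ⟶ Spec (CommRingCat.of k)) [LocallyOfFiniteType f]
    [LocallyOfFiniteType π] [IsIntegral X] [IsIntegral V] (hL : PicF.IsInvertible L) :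
    topologicalKrullDim V = topologicalKrullDim X + 1 := by
  have := B.affine
  have hN : IsLocallyNoetherian X := LocallyOfFiniteType.isLocallyNoetherian f
  obtain ⟨U, e, hx, he⟩ := (isInvertible_iff L).1 hL (genericPoint X)
  obtain ⟨A, hA, hxA, hAU⟩ := (Opens.isBasis_iff_nbhd.1 X.isBasis_affineOpens) hx
  have hW := hA.preimage π
  have hne : Nonempty (A : Scheme.{u}) := ⟨⟨_, hxA⟩⟩
  have hne' : Nonempty ((π ⁻¹ᵁ A : V.Opens) : Scheme.{u}) := by
    refine ⟨⟨j (genericPoint X), ?_⟩⟩
    exact le_preimage_section B.comp A hxA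
  have hNA : IsNoetherianRing Γ(X, A) := IsLocallyNoetherian.component_noetherian ⟨A, hA⟩
  rw [← Groth.Agent.CycA.ProdDim.dim_of_isOpenImmersion (π ≫ f) (π ⁻¹ᵁ A).ι,
    ← Groth.Agent.CycA.ProdDim.dim_of_isOpenImmersion f (Scheme.Opens.ι A), dim_affine hW, dim_affine hA,
    ← Polynomial.ringKrullDim_of_isNoetherianRing]
  exact (ringKrullDim_eq_of_ringEquiv (RingEquiv.ofBijective _ (B.bij A hA (res L hAU e) (he.res hAU)))).symm

end Groth.Agent.Cone.K859.Dim

end
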