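import Groth.Agent.Cone.K859.Laur
import Groth.Agent.Cone.K859.Cm
import Groth.Agent.Cone.K859.Dim
import Groth.Agent.S1535
import Groth.Agent.PosLin.K931.NormalFib
import Groth.Agent.Surf.K457.BirNormal
import Groth.Agent.JacVar.K533.CurveBasic
import Groth.Agent.Ega4A.RegCM

/-!
# Cohen–Macaulayness of the affine cone of an ample line bundle
-/

set_option autoImplicit false
universe u

open CategoryTheory CategoryTheory.Limits AlgebraicGeometry Opposite TopologicalSpace

noncomputable section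

namespace Groth.Agent.Cone.K859.Aff

open Groth.Agent.Fdesc.LocGen K30.LBdl K30.CtrFac

section affine

variable {k : Type u} [Field k] {V : Scheme.{u}} (h : V ⟶ Spec (CommRingCat.of k))

/-- The structure morphism of the spectrum of the global functions. -/
def toK : Spec Γ(V, ⊤) ⟶ Spec (CommRingCat.of k) :=
  Spec.map ((Scheme.ΓSpecIso (CommRingCat.of k)).inv ≫ h.appTop)

theorem toSpecΓ_toK : V.toSpecΓ ≫ toK h = h := by
  rw [toK, Spec.map_comp, ← Scheme.toSpecΓ_naturality_assoc, toSpecΓ_SpecMap_ΓSpecIso_inv, Category.comp_id]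

theorem opens_eq (U : (Spec (CommRingCat.of k)).Opens) : U = ⊤ ∨ U = ⊥ := by
  have hs : Subsingleton (Spec (CommRingCat.of k)) := inferInstanceAs (Subsingleton (PrimeSpectrum k))
  by_cases hU : ∃ x, x ∈ U
  · obtain ⟨x, hx⟩ := hU
    left
    rw [eq_top_iff]
    intro y _
    rwa [Subsingleton.elim y x]
  · right
    rw [eq_bot_iff]
    intro y hy
    exact (hU ⟨y, hy⟩).elim

theorem bijective_toSpecΓ_app (U : (Spec (CommRingCat.of k)).Opens) :
    Function.Bijective (V.toSpecΓ.app ((toK h) ⁻¹ᵁ U)).hom := by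
  rcases opens_eq U with rfl | rfl
  · change Function.Bijective (V.toSpecΓ.appTop).hom
    rw [Scheme.toSpecΓ_appTop]
    exact ConcreteCategory.bijective_of_isIso (Scheme.ΓSpecIso Γ(V, ⊤)).hom
  · change Function.Bijective (V.toSpecΓ.app ⊥).hom
    have h1 : Subsingleton Γ(Spec Γ(V, ⊤), ⊥) := inferInstance
    have h2 : Subsingleton Γ(V, V.toSpecΓ ⁻¹ᵁ ⊥) := inferInstanceAs (Subsingleton Γ(V, ⊥))
    exact ⟨fun _ _ _ => Subsingleton.elim _ _, fun y => ⟨0, Subsingleton.elim _ _⟩⟩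

end affine

/-- Cohen–Macaulayness at a closed point of a normal affine scheme. -/
theorem isCM_stalk_iff {A : Type u} [CommRing A] [IsNoetherianRing A] [IsDomain A]
    (c : Spec (CommRingCat.of A)) (hc : IsClosed ({c} : Set (Spec (CommRingCat.of A))))
    (O : (Spec (CommRingCat.of A)).Opens) (hO : (O : Set (Spec (CommRingCat.of A))) = {c}ᶜ) (n : ℕ)
    (hdim : ringKrullDim ((Spec (CommRingCat.of A)).presheaf.stalk c) = ((n + 1 : ℕ) : WithBot ℕ∞))
    (hnorm : IsIntegrallyClosed ((Spec (CommRingCat.of A)).presheaf.stalk c)) :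
    LocCoh.IsCohenMacaulayLocalRing ((Spec (CommRingCat.of A)).presheaf.stalk c) ↔
      ∀ i : ℕ, 1 ≤ i → i + 1 ≤ n → Subsingleton (Coh.HH (O : Scheme.{u}) (Coh.structureModule (O : Scheme.{u})) i) := by
  let m : Ideal A := PrimeSpectrum.asIdeal (R := A) c
  have hprime : m.IsPrime := PrimeSpectrum.isPrime (R := A) c
  have hmax : m.IsMaximal := (PrimeSpectrum.isClosed_singleton_iff_isMaximal (R := A) c).1 hc
  obtain rfl : LocCoh.puncturedOpen A m = O := by
    apply Opens.ext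
    rw [hO]
    change (PrimeSpectrum.zeroLocus (m : Set A))ᶜ = _
    rw [← PrimeSpectrum.closure_singleton (R := A) c]
    exact congrArg _ hc.closure_eq
  let e : (Spec (CommRingCat.of A)).presheaf.stalk c ≃+* Localization.AtPrime m :=
    (Spec.stalkIso (CommRingCat.of A) c).commRingCatIsoToRingEquiv
  rw [Groth.Agent.LoccohB.CMSch.isCM_iff_of_ringEquiv e]
  exact Cm.isCM_iff m n (by rw [← hdim]; exact (ringKrullDim_eq_of_ringEquiv e).symm) (IsIntegrallyClosed.of_equiv e)

section main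

variable {k : Type u} [Field k] {X : Scheme.{u}} (f : X ⟶ Spec (CommRingCat.of k)) [Smooth f] [IsProper f]
  [GeometricallyConnected f] {L L' : X.Modules} (hL : PicF.IsInvertible L) (hL' : PicF.IsInvertible L')
  (θ : CohB1.tensorMod L L' ⟶ Coh.structureModule X) [IsIso θ]
  (hamp : RelAmple.IsRelAmple f L) {V : Scheme.{u}} {π : V ⟶ X} [Smooth π] {j : X ⟶ V} (B : LineBdl L π j)

theorem isIso_unitToPush {Z Y : Scheme.{u}} (t : Z ⟶ Y) [IsIso t] : IsIso (ClSub.unitToPush t) := by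
  rw [Scheme.Modules.Hom.isIso_iff_isIso_app]
  intro U
  rw [ConcreteCategory.isIso_iff_bijective]
  exact ConcreteCategory.bijective_of_isIso (t.app U)

theorem subsingleton_HH_of_iso {Z Y : Scheme.{u}} (t : Z ⟶ Y) [IsIso t] (q : ℕ) :
    Subsingleton (Coh.HH Z (Coh.structureModule Z) q) ↔ Subsingleton (Coh.HH Y (Coh.structureModule Y) q) := by
  have h2 : Coh.IsQCoh (Coh.structureModule Z) := Groth.Agent.Ega2.QCohLocal.isQCoh_structureModule _
  obtain ⟨e⟩ := Groth.Agent.S0012.result t (Coh.structureModule Z) q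
  have := isIso_unitToPush t
  rw [e.toEquiv.subsingleton_congr]
  exact (Dec.subsingleton_HH_iff_of_iso (asIso (ClSub.unitToPush t)) q).symm

include hL hL' θ hamp B in
theorem main (d : ℕ) (hd : topologicalKrullDim X = d) :
    (∀ c : Spec Γ(V, ⊤), LocCoh.IsCohenMacaulayLocalRing ((Spec Γ(V, ⊤)).presheaf.stalk c)) ↔
      ∀ i : ℕ, 1 ≤ i → i + 1 ≤ d → ∀ n : ℤ, Subsingleton (Coh.HH X (Laur.Npow L L' n) i) := by
  have hint : IsIntegral X := K533.CurveBasic.isIntegral f
  have hc : IsIso f.c := Geo.isIso_c f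
  have hN : IsLocallyNoetherian X := LocallyOfFiniteType.isLocallyNoetherian f
  have hcomp : CompactSpace X := QuasiCompact.compactSpace_of_compactSpace f
  have hqs : QuasiSeparatedSpace X := inferInstance
  have hLG : Groth.Agent.Ega2.Nv.LocGen L ⊤ := Groth.Agent.Ega2.Ample.locGen_top_iff.2 hL
  let g : Spec Γ(V, ⊤) ⟶ Spec (CommRingCat.of k) := toK (π ≫ f)
  have hqg : V.toSpecΓ ≫ g = π ≫ f := toSpecΓ_toK (π ≫ f)
  obtain ⟨ε, O, P⟩ := exists_pack B hLG hamp hqg (fun U _ => bijective_toSpecΓ_app (π ≫ f) U)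
  have hV : IsIntegral V := isIntegral_of_lineBdl B hLG
  have i1 := P.proper
  have i2 := P.surj
  have i3 := P.isIso
  have i4 := P.isIso_c
  have i5 : LocallyOfFiniteType g := by
    have : LocallyOfFiniteType (V.toSpecΓ ≫ g) := by rw [hqg]; infer_instance
    have : IsNoetherianRing Γ(Spec (CommRingCat.of k), ⊤) :=
      isNoetherianRing_of_ringEquiv _ (Scheme.ΓSpecIso (CommRingCat.of k)).symm.commRingCatIsoToRingEquiv
    refine Geo.locallyOfFiniteType_of_proper V.toSpecΓ ?_ g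
    rw [Scheme.toSpecΓ_appTop]
    exact ConcreteCategory.bijective_of_isIso (Scheme.ΓSpecIso Γ(V, ⊤)).hom
  have hCint : IsIntegral (Spec Γ(V, ⊤)) := isIntegral_of_isIso_c V.toSpecΓ
  have hRdom : IsDomain Γ(V, ⊤) := inferInstance
  have hRN : IsNoetherianRing Γ(V, ⊤) :=
    isLocallyNoetherian_Spec.1 (LocallyOfFiniteType.isLocallyNoetherian g)
  have hs : Subsingleton (Spec (CommRingCat.of k)) := inferInstanceAs (Subsingleton (PrimeSpectrum k))
  let pt : Spec (CommRingCat.of k) := IsLocalRing.closedPoint k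
  let c₀ : Spec Γ(V, ⊤) := ε pt
  have hrange : Set.range ε = {c₀} := by
    ext c
    constructor
    · rintro ⟨x, rfl⟩
      rw [Set.mem_singleton_iff, Subsingleton.elim x pt]
    · rintro rfl
      exact ⟨pt, rfl⟩
  have hO : (O : Set (Spec Γ(V, ⊤))) = {c₀}ᶜ := by rw [P.coe, hrange]
  have hclosed : IsClosed ({c₀} : Set (Spec Γ(V, ⊤))) := by
    rw [← compl_compl ({c₀} : Set (Spec Γ(V, ⊤))), ← hO]
    exact O.isOpen.isClosed_compl
  have hsm : Smooth (π ≫ f) := inferInstance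
  have hnorm : Pi1.IsNormalScheme (Spec Γ(V, ⊤)) := by
    refine K931.NormalFib.isNormalScheme_of_bijective V.toSpecΓ (fun U => ?_)
      (Groth.Agent.Sga4B.SmoothNormal.isNormalScheme_of_smooth (π ≫ f))
    exact ConcreteCategory.bijective_of_isIso (V.toSpecΓ.c.app (op U))
  have hVdim : topologicalKrullDim V = topologicalKrullDim X + 1 := Dim.dim_lineBdl B f hL
  have hne : (O : Set (Spec Γ(V, ⊤))).Nonempty := by
    obtain ⟨v, hv⟩ := K30.CtrFac.nonempty_compl B hLG
    exact ⟨V.toSpecΓ v, (P.mem_iff v).2 hv⟩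
  have hCdim : topologicalKrullDim (Spec Γ(V, ⊤)) = ((d + 1 : ℕ) : WithBot ℕ∞) := by
    rw [← Groth.Agent.Localalg.BlowBoundary2.topologicalKrullDim_eq g V.toSpecΓ O hne, hVdim, hd]
    rfl
  have hreg : ∀ c : Spec Γ(V, ⊤), c ∈ O → LocCoh.IsCohenMacaulayLocalRing ((Spec Γ(V, ⊤)).presheaf.stalk c) := by
    intro c hc
    obtain ⟨v, rfl⟩ := V.toSpecΓ.surjective c
    have h1 := K457.BirNormal.isIso_stalkMap_of_restrict V.toSpecΓ O v hc
    let e := (asIso (V.toSpecΓ.stalkMap v)).commRingCatIsoToRingEquiv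
    rw [Groth.Agent.LoccohB.CMSch.isCM_iff_of_ringEquiv e]
    let : V.Over (Spec (CommRingCat.of k)) := ⟨π ≫ f⟩
    have h2 : Smooth (V ↘ Spec (CommRingCat.of k)) := hsm
    have h3 := Groth.Agent.S1535.result k V v
    exact Groth.Agent.Ega4A.RegCM.isCohenMacaulayLocalRing_of_isRegularLocalRing _
  have h1 : (∀ c : Spec Γ(V, ⊤), LocCoh.IsCohenMacaulayLocalRing ((Spec Γ(V, ⊤)).presheaf.stalk c)) ↔
      LocCoh.IsCohenMacaulayLocalRing ((Spec Γ(V, ⊤)).presheaf.stalk c₀) := by
    refine ⟨fun h => h c₀, fun h c => ?_⟩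
    by_cases hc : c ∈ O
    · exact hreg c hc
    · have h2 : c ∈ (O : Set (Spec Γ(V, ⊤)))ᶜ := hc
      rw [hO, compl_compl, Set.mem_singleton_iff] at h2
      rw [h2]
      exact h
  rw [h1, isCM_stalk_iff (A := Γ(V, ⊤)) c₀ hclosed O hO d
    ((Groth.Agent.Localalg.VanSlice.ringKrullDim_stalk_of_isClosed g c₀ hclosed).trans hCdim) (hnorm c₀).2]
  refine forall_congr' fun i => forall_congr' fun _ => forall_congr' fun _ => ?_
  rw [← subsingleton_HH_of_iso (V.toSpecΓ ∣_ O) i]
  exact Laur.subsingleton_HH_iff B (V.toSpecΓ ⁻¹ᵁ O) P.pre hL hL' θ i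

end main

end Groth.Agent.Cone.K859.Aff

end
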