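import Groth.Agent.S5970
import Groth.Agent.S5005
import Groth.Agent.S8255
import Groth.Agent.Fdesc.LocGen
import Groth.Prelude.Def_Canon
import Groth.Agent.Vancyc.H878.RelOmega
import Groth.Agent.Vancyc.H878.OmegaRank
import Groth.Agent.Vancyc.H878.Triv
import Groth.Agent.Dual3.K478.DetSeq
import Groth.Agent.OmegaSh.K583.ExtPowPull
import Groth.Agent.AbSch.K451.DetMat
import Groth.Agent.Krr.H495.Rank
import Groth.Agent.Ega3B.PullTensor
import Groth.Agent.S5029

/-!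
# The canonical sheaf of a line bundle `V(L)`

`Ω_{V(E)/S} ≅ π^* E`; `ω_{V(L)} ≅ π^*(L ⊗ ω_X)`.
-/

set_option autoImplicit false
universe u

open CategoryTheory CategoryTheory.Limits AlgebraicGeometry Opposite TopologicalSpace

noncomputable section

namespace Groth.Agent.Cone.K859.Can

open Groth.Agent.Fdesc.LocGen

section der

variable {S V : Scheme.{u}} {E : S.Modules} {π : V ⟶ S} {Ω' : V.Modules} (d : OmegaSh.Der π Ω')
  (t : ∀ U : S.Opens, Γ(E, U) →+ Γ(V, π ⁻¹ᵁ U))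
  (hlin : ∀ (U : S.Opens) (a : Γ(S, U)) (m : Γ(E, U)), t U (a • m) = (π.app U).hom a * t U m)
  (hnat : ∀ (U W : S.Opens) (h : W ≤ U) (m : Γ(E, U)), t W (res E h m) = ores (π.preimage_mono h) (t U m))

theorem der_mul (U : V.Opens) (a b : Γ(V, U)) : d.app U (a * b) = a • d.app U b + b • d.app U a :=
  PresheafOfModules.Derivation.d_mul d (X := op U) a b

theorem der_res {U W : V.Opens} (h : W ≤ U) (a : Γ(V, U)) : d.app W (ores h a) = res Ω' h (d.app U a) :=
  PresheafOfModules.Derivation.d_map d (homOfLE h).op a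

theorem der_app (U : S.Opens) (a : Γ(S, U)) : d.app (π ⁻¹ᵁ U) ((π.app U).hom a) = 0 :=
  PresheafOfModules.Derivation.d_app d (X := op U) a

include hlin hnat in
/-- The map `π^* E ⟶ Ω` sending `m` to `d (t m)`. -/
theorem exists_map : ∃ φ : (Scheme.Modules.pullback π).obj E ⟶ Ω', ∀ (U : S.Opens) (m : Γ(E, U)),
    φ.app (π ⁻¹ᵁ U) (OmegaSh.pullSect π E U m) = d.app (π ⁻¹ᵁ U) (t U m) := by
  let ψ : E ⟶ (Scheme.Modules.pushforward π).obj Ω' :=
    mkHom (M := E) (N := (Scheme.Modules.pushforward π).obj Ω') (fun U => (d.app (π ⁻¹ᵁ U)).comp (t U))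
      (fun U a m => by
        change d.app (π ⁻¹ᵁ U) (t U (a • m)) = (π.app U).hom a • d.app (π ⁻¹ᵁ U) (t U m)
        rw [hlin, der_mul, der_app, smul_zero, add_zero])
      (fun U W h m => by
        change d.app (π ⁻¹ᵁ W) (t W (res E h m)) = res Ω' (π.preimage_mono h) (d.app (π ⁻¹ᵁ U) (t U m))
        rw [hnat, der_res])
  let φ : (Scheme.Modules.pullback π).obj E ⟶ Ω' := ((Scheme.Modules.pullbackPushforwardAdjunction π).homEquiv E Ω').symm ψ
  refine ⟨φ, fun U m => ?_⟩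
  have h1 : (Scheme.Modules.pullbackPushforwardAdjunction π).unit.app E ≫ (Scheme.Modules.pushforward π).map φ = ψ := by
    exact ((Scheme.Modules.pullbackPushforwardAdjunction π).homEquiv_unit E Ω' φ).symm.trans
      (Equiv.apply_symm_apply _ _)
  exact congr(($h1).app U m)

end der

/-- `Ω_{V(E)/S} ≅ π^* E`. -/
theorem nonempty_iso_omega {S : Scheme.{u}} {E : S.Modules} (hE : Coh.IsQCoh E)
    (A : RelSpec.QCAlg S) (j : E ⟶ A.toModule) (hA : RelSpec.IsSymAlg E A j) :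
    Nonempty ((Scheme.Modules.pullback A.π).obj E ≅ Omega.sheaf A.π) := by
  have h1 : IsIso A.gammaMap := Groth.Agent.S8255.result A
  have hd := Groth.Agent.S5005.result A.π
  let t : ∀ U : S.Opens, Γ(E, U) →+ Γ(A.spec, A.π ⁻¹ᵁ U) := fun U =>
    ((inv A.gammaMap).app (op U)).hom.toAddMonoidHom.comp (j.app U).hom
  have ht : ∀ (U : S.Opens) (m : Γ(E, U)), A.gammaMap.app (op U) (t U m) = j.app U m := by
    intro U m
    have h2 : (inv A.gammaMap).app (op U) ≫ A.gammaMap.app (op U) = 𝟙 _ := by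
      rw [← NatTrans.comp_app, IsIso.inv_hom_id, NatTrans.id_app]
    exact congr($h2 (j.app U m))
  have hinj : ∀ (U : S.Opens), Function.Injective (A.gammaMap.app (op U)) := fun U =>
    (ConcreteCategory.bijective_of_isIso (A.gammaMap.app (op U))).1
  obtain ⟨φ, hφ⟩ := exists_map (OmegaSh.dOmega A.π) t (fun U a m => by
    apply hinj U
    rw [ht, map_mul, ht]
    have h2 : A.gammaMap.app (op U) ((A.π.app U).hom a) = (A.str.app (op U)).hom a := congr($(A.π_c_gammaMap).app (op U) a)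
    rw [h2]
    exact Scheme.Modules.Hom.app_smul j a m) (fun U W h m => by
    apply hinj W
    rw [ht]
    refine (app_res j h m).trans ?_
    rw [← ht]
    exact congr($(A.gammaMap.naturality (homOfLE h).op) (t U m)).symm)
  have : IsIso φ := Groth.Agent.S5970.result E hE A j hA (Omega.sheaf A.π) (OmegaSh.dOmega A.π) hd φ (fun U m t' h => by
    rw [hφ]
    congr 1
    apply hinj U
    rw [ht, h])
  exact ⟨asIso φ⟩

open Groth.Agent in
/-- **The canonical sheaf of a line bundle** `V(M)`: `ω_{V(M)} ≅ π^*(M ⊗ ω_X)`. -/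
theorem nonempty_iso_canonical {X S : Scheme.{u}} (f : X ⟶ S) (d : ℕ) [SmoothOfRelativeDimension d f]
    [QuasiSeparated f] {M : X.Modules} (hM : PicF.IsInvertible M) (hMq : Coh.IsQCoh M)
    (A : RelSpec.QCAlg X) (j : M ⟶ A.toModule) (hA : RelSpec.IsSymAlg M A j)
    {ωX : X.Modules} (hω : Canon.IsTopDiff f d ωX) {ωV : A.spec.Modules} (hV : Canon.IsTopDiff (A.π ≫ f) (d + 1) ωV) :
    Nonempty ((Scheme.Modules.pullback A.π).obj (CohB1.tensorMod M ωX) ≅ ωV) := by
  have hM1 : FlatMod.IsFinLocFreeOfRank 1 M := Ega2.QCohLocal.isFinLocFreeOfRank_one_iff.2 hM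
  have hsm : Smooth A.π := Groth.Agent.S5029.result M hMq (Ega2.QCohLocal.isFinLocFree_of_rank hM1) A j hA
  have hΩ : FlatMod.IsFinLocFreeOfRank d (Omega.sheaf f) := Vancyc.H878.OmegaRank.isFinLocFreeOfRank_omega d f
  have hωi : PicF.IsInvertible ωX := K451.DetMat.isInvertible_of_isExtPow hΩ hω
  have hΩq : Coh.IsQCoh (Omega.sheaf f) := Vancyc.H878.OmegaRank.isQCoh_omega f
  obtain ⟨C, hC, ⟨e1⟩, ⟨e2⟩, ⟨e3⟩⟩ := Vancyc.H878.RelOmega.exists_shortExact A.π f
  obtain ⟨e4⟩ := nonempty_iso_omega hMq A j hA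
  have hπΩ := Vancyc.H878.Triv.isFinLocFreeOfRank_pullback A.π hΩ
  have hπM := Vancyc.H878.Triv.isFinLocFreeOfRank_pullback A.π hM1
  have hπΩq : Coh.IsQCoh ((Scheme.Modules.pullback A.π).obj (Omega.sheaf f)) := VarietyB.PullSec.isQCoh_pullback _ _ hΩq
  have hπMq : Coh.IsQCoh ((Scheme.Modules.pullback A.π).obj M) := VarietyB.PullSec.isQCoh_pullback _ _ hMq
  have r1 : FlatMod.IsFinLocFreeOfRank d C.X₁ := Krr.H495.Rank.rank_iso e1.symm hπΩ
  have r3 : FlatMod.IsFinLocFreeOfRank 1 C.X₃ := Krr.H495.Rank.rank_iso (e4.trans e3.symm) hπM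
  have q1 : Coh.IsQCoh C.X₁ := Ega2.QCohLocal.isQCoh_of_iso e1.symm hπΩq
  have q2 : Coh.IsQCoh C.X₂ := Ega2.QCohLocal.isQCoh_of_iso e2.symm (Vancyc.H878.OmegaRank.isQCoh_omega _)
  have q3 : Coh.IsQCoh C.X₃ := Ega2.QCohLocal.isQCoh_of_iso (e4.trans e3.symm) hπMq
  have x1 : ExtPow.IsExtPow d C.X₁ ((Scheme.Modules.pullback A.π).obj ωX) :=
    K583.ExtPowPull.isExtPow_of_iso_left q1 e1.symm (K583.ExtPowPull.isExtPow_pullback A.π hΩq hω)
  have x2 : ExtPow.IsExtPow (d + 1) C.X₂ ωV := K583.ExtPowPull.isExtPow_of_iso_left q2 e2.symm hV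
  have x3 : ExtPow.IsExtPow 1 C.X₃ ((Scheme.Modules.pullback A.π).obj M) :=
    K583.ExtPowPull.isExtPow_of_iso_left q3 (e4.trans e3.symm) (Sga67.TensorOps.isExtPow_one _)
  obtain ⟨e⟩ := K478.DetSeq.nonempty_of_shortExact hC r1 r3 x1 x2 x3
  exact ⟨(Ega3B.PullTensor.pullTensorIso A.π hM hωi).trans e⟩

end Groth.Agent.Cone.K859.Can

end
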