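import Groth.Agent.EGA2.K30.CtrFac3
import Groth.Agent.EGA2.K37.ConeBase
import Groth.Agent.Flat2G.ContrAff
import Groth.Agent.FlatA.SteinNoeth
import Groth.Agent.S14077

/-!
# Geometry of the line bundle of an invertible module and of its affine cone

* `exists_lineBdl`: the spectrum of the symmetric algebra is a line bundle with a zero section;
* `locallyOfFiniteType_of_proper`: the target of a contraction is of finite type;
* `isIso_c`: `O = f_* O` for `f` proper and smooth with geometrically connected fibres.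
-/

set_option autoImplicit false
universe u

open CategoryTheory CategoryTheory.Limits AlgebraicGeometry Opposite TopologicalSpace

noncomputable section

namespace Groth.Agent.Cone.K859.Geo

open K36.SymAlg Groth.Agent.Fdesc.LocGen K30.LBdl

section lineBdl

variable {X : Scheme.{u}} {L : X.Modules} {𝒜 : RelSpec.QCAlg X} {jL : L ⟶ 𝒜.toModule}

/-- The spectrum of the symmetric algebra of `L`, with its zero section. -/
theorem exists_lineBdl (hLq : Coh.IsQCoh L) (hS : RelSpec.IsSymAlg L 𝒜 jL) :
    ∃ j0 : X ⟶ 𝒜.spec, Nonempty (LineBdl L 𝒜.π j0) := by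
  obtain ⟨aug, haug, -⟩ := hS (RelSpec.QCAlg.unit X) 0
  obtain ⟨j0, hj0, -⟩ := K37.ConeBase.existsUnique_section aug
  have hcomp : j0 ≫ 𝒜.π = 𝟙 X := K37.ConeBase.section_π aug j0 hj0
  refine ⟨j0, ⟨?_⟩⟩
  exact
  { affine := inferInstance
    comp := hcomp
    tau := fun A hA => (gam 𝒜 A hA).symm.toAddMonoidHom.comp (jApp L 𝒜 jL A)
    tau_smul := fun A hA a e => by
      change (gam 𝒜 A hA).symm (jApp L 𝒜 jL A (a • e)) = _ * (gam 𝒜 A hA).symm (jApp L 𝒜 jL A e)
      rw [RingEquiv.symm_apply_eq, map_mul, RingEquiv.apply_symm_apply, gam_app, jApp_smul]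
    tau_res := fun A A' hA hA' i e => by
      change ores _ ((gam 𝒜 A hA).symm (jApp L 𝒜 jL A e)) = (gam 𝒜 A' hA').symm (jApp L 𝒜 jL A' (res L i e))
      rw [RingEquiv.eq_symm_apply, gam_res 𝒜 hA hA' i, RingEquiv.apply_symm_apply]
      exact (jApp_res L 𝒜 jL i e).symm
    zero := fun A hA e => by
      rw [app_of_chart hcomp aug A hA (hj0 A hA)]
      change (aug.hom.app (op A)).hom (gam 𝒜 A hA ((gam 𝒜 A hA).symm (jApp L 𝒜 jL A e))) = 0
      rw [RingEquiv.apply_symm_apply]
      exact congr(($haug).app A e)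
    bij := fun A hA e he => by
      have h1 := K30.SymLine.bijective_eval₂ hLq hS hA he
      have h2 : ((gam 𝒜 A hA : Γ(𝒜.spec, 𝒜.π ⁻¹ᵁ A) →+* _)).comp
          (Polynomial.eval₂RingHom (𝒜.π.app A).hom ((gam 𝒜 A hA).symm (jApp L 𝒜 jL A e))) =
          Polynomial.eval₂RingHom (𝒜.str.app (op A)).hom (jApp L 𝒜 jL A e) := by
        apply Polynomial.ringHom_ext
        · intro a
          rw [RingHom.comp_apply, Polynomial.coe_eval₂RingHom, Polynomial.coe_eval₂RingHom, Polynomial.eval₂_C,
            Polynomial.eval₂_C]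
          exact gam_app 𝒜 A hA a
        · rw [RingHom.comp_apply, Polynomial.coe_eval₂RingHom, Polynomial.coe_eval₂RingHom, Polynomial.eval₂_X,
            Polynomial.eval₂_X]
          exact RingEquiv.apply_symm_apply _ _
      rw [← h2] at h1
      exact (Function.Bijective.of_comp_iff' (gam 𝒜 A hA).bijective _).1 h1 }

end lineBdl

section fin

open Groth.Agent.Flat2G.ContrRed in
/-- A proper morphism `V ⟶ C` with `C` affine and `Γ(C) = Γ(V)`: if `V` is of finite type over the affine Noetherian
scheme `S`, then so is `C`. -/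
theorem locallyOfFiniteType_of_proper {V C S : Scheme.{u}} [IsAffine C] [IsAffine S] [IsNoetherianRing Γ(S, ⊤)]
    (q : V ⟶ C) [IsProper q] (hq : Function.Bijective q.appTop.hom) (g : C ⟶ S) [LocallyOfFiniteType (q ≫ g)] :
    LocallyOfFiniteType g := by
  obtain ⟨n, ψ, hψ, -, hprop⟩ := exists_poly q g ∅
  have hN : IsNoetherianRing Γ(Spec (poly S n), ⊤) :=
    isNoetherianRing_of_ringEquiv _ (Scheme.ΓSpecIso (poly S n)).symm.commRingCatIsoToRingEquiv
  have h1 := Groth.Agent.FlatA.SteinNoeth.finite_appTop (q ≫ toSpec ψ)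
  rw [Scheme.Hom.comp_appTop] at h1
  have hiso : IsIso q.appTop := (ConcreteCategory.isIso_iff_bijective _).2 hq
  have hr := RingHom.toMorphismProperty_respectsIso_iff.mp RingHom.finite_respectsIso
  have h2 : (toSpec ψ).appTop.hom.Finite :=
    (MorphismProperty.cancel_right_of_respectsIso (P := RingHom.toMorphismProperty RingHom.Finite)
      (toSpec ψ).appTop q.appTop).mp h1
  have h3 : IsFinite (toSpec ψ) := by
    rw [HasAffineProperty.iff_of_isAffine (P := @IsFinite)]
    exact ⟨inferInstance, h2⟩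
  have h4 : LocallyOfFiniteType (Spec.map (CommRingCat.ofHom (MvPolynomial.C (R := Γ(S, ⊤)) (σ := Fin n)))) := by
    rw [HasRingHomProperty.Spec_iff (P := @LocallyOfFiniteType)]
    exact (RingHom.finiteType_algebraMap (A := Γ(S, ⊤)) (B := MvPolynomial (Fin n) Γ(S, ⊤))).2 inferInstance
  rw [← hψ]
  infer_instance

end fin

/-- `O = f_* O` for `f` proper and smooth with geometrically connected fibres. -/
theorem isIso_c {S G : Scheme.{u}} (g : G ⟶ S) [IsProper g] [Smooth g] [GeometricallyConnected g] : IsIso g.c := by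
  have : GeometricallyReduced g := Groth.Agent.Flat2B.SmoothGeom.geometricallyReduced_of_smooth g
  have h : ∀ U : S.Opens, IsIso (g.app U) := fun U =>
    Groth.Agent.S0981.result g (fun K _ _ a =>
      ⟨GeometricallyReduced.geometrically_isReduced (f := g) a _ _ (.of_hasPullback _ _),
        GeometricallyConnected.geometrically_connectedSpace (f := g) a _ _ (.of_hasPullback _ _)⟩) U
  have h' : ∀ U, IsIso (g.c.app U) := fun U => h U.unop
  exact NatIso.isIso_of_isIso_app g.c

end Groth.Agent.Cone.K859.Geo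

end
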