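import Groth.Agent.EGA2.K43.GrSym
import Groth.Agent.EGA2.K37.ConeBase

/-!
# The graded symmetric algebra with its augmentation and its vertex
-/

set_option autoImplicit false
universe u

open CategoryTheory CategoryTheory.Limits AlgebraicGeometry Opposite TopologicalSpace

noncomputable section

namespace Groth.Agent.Cone.K859.GrAug

open K43.GrSym K36.SymAlg

variable {S : Scheme.{u}} {E : S.Modules}

/-- **Existence of the graded symmetric algebra with its augmentation and vertex section.** -/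
theorem exists_data (hE : Coh.IsQCoh E) :
    ∃ (𝒮 : RelProj.QCGrAlg S) (j : E ⟶ 𝒮.toModule), RelProj.IsGrSymAlg E 𝒮 j ∧ RelCone.StrZeroBij 𝒮 ∧
      ∃ aug : 𝒮.toQCAlg ⟶ RelSpec.QCAlg.unit S, RelCone.IsAugmentation 𝒮 aug ∧
        ∃ j₀ : S ⟶ 𝒮.toQCAlg.spec, RelCone.IsVertex 𝒮 aug j₀ := by
  obtain ⟨A, j, hj, hb⟩ := K36.SymAlg.exists_symAlg E hE
  obtain ⟨aug, haug, -⟩ := hj (RelSpec.QCAlg.unit S) 0
  have key : ∀ (U : S.Opens) (d : ℕ) (y : SymmetricAlgebra Γ(S, U) Γ(E, U)),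
      y ∈ LinearMap.range (SymmetricAlgebra.ι Γ(S, U) Γ(E, U)) ^ (d + 1) →
        ((aug.hom.app (op U)).hom.comp (symHom E A j U)) y = 0 := by
    intro U d y hy
    rw [pow_succ'] at hy
    have hι : ∀ m : Γ(E, U), ((aug.hom.app (op U)).hom.comp (symHom E A j U)) (SymmetricAlgebra.ι _ _ m) = 0 := by
      intro m
      rw [RingHom.comp_apply, symHom_ι]
      exact congr(($haug).app U m)
    refine Submodule.mul_induction_on hy ?_ ?_
    · rintro _ ⟨m, rfl⟩ z _
      rw [map_mul, hι, zero_mul]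
    · intro a b ha hb'
      rw [map_add, ha, hb', add_zero]
  refine ⟨grSym hb, j, ⟨hj, fun U hU x => ?_⟩, fun U hU => ⟨?_, ?_⟩, aug, ?_, ?_⟩
  · have h1 := K36.SymAlg.symHom_ι E A j U x
    have h2 : (eqv hb U hU).symm (K36.SymAlg.jApp E A j U x) = SymmetricAlgebra.ι _ _ x := by
      rw [← h1, eqv_symm_symHom hb U hU]
    have h3 : K36.SymAlg.jApp E A j U x ∈ tr (eqv hb U hU) (symDeg Γ(S, U) Γ(E, U)) 1 := by
      rw [mem_tr, h2]
      exact ι_mem _ _ _
    exact h3
  · intro r r' h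
    have h1 : (A.str.app (op U)).hom r = (A.str.app (op U)).hom r' := congrArg Subtype.val h
    rw [← symHom_algebraMap E A j U r, ← symHom_algebraMap E A j U r'] at h1
    exact (SymmetricAlgebra.algebraMap_leftInverse _).injective ((hb U hU).1 h1)
  · rintro ⟨x, hx⟩
    obtain ⟨y, rfl⟩ := (hb U hU).2 x
    have hx' : symHom E A j U y ∈ tr (eqv hb U hU) (symDeg Γ(S, U) Γ(E, U)) 0 := hx
    rw [mem_tr, eqv_symm_symHom, symDeg, pow_zero, Submodule.mem_one] at hx'
    obtain ⟨r, rfl⟩ := hx'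
    refine ⟨r, Subtype.ext ?_⟩
    exact (symHom_algebraMap E A j U r).symm
  · intro U hU d x hx
    obtain ⟨y, rfl⟩ := (hb U hU).2 x
    have hx' : symHom E A j U y ∈ tr (eqv hb U hU) (symDeg Γ(S, U) Γ(E, U)) (d + 1) := hx
    rw [mem_tr, eqv_symm_symHom] at hx'
    exact key U d y hx'
  · obtain ⟨j₀, hj₀, -⟩ := K37.ConeBase.existsUnique_section aug
    exact ⟨j₀, K37.ConeBase.section_π aug j₀ hj₀, hj₀⟩

end Groth.Agent.Cone.K859.GrAug

end
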