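import Groth.Agent.Vancyc.H545.UnitLoc
import Groth.Agent.EGA2.K30.LineBdl
import Groth.Agent.EGA2.K30.Grauert2
import Groth.Agent.EGA2.K38.LinePair

/-!
# Morphisms of modules glued from locally defined graphs; the tautological sections of a line bundle

* `exists_hom`: a morphism of modules from a linear, locally functional relation;
* `exists_rho`: `ρ : L ⟶ π_* O_V` from a line bundle `LineBdl L π j`;
* `exists_rho'`: the inverse `ρ' : L' ⟶ h_* O` of a linear map `ρ : L ⟶ h_* O` with invertible values.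
-/

set_option autoImplicit false
universe u

open CategoryTheory CategoryTheory.Limits AlgebraicGeometry Opposite TopologicalSpace

noncomputable section

namespace Groth.Agent.Cone.K859.Glue

open Groth.Agent.Fdesc.LocGen Groth.Agent.CohqB.AlgSys Groth.Agent.Vancyc.H545.UnitLoc

variable {X Y : Scheme.{u}}

/-- **Gluing of linear, locally functional relations.** -/
theorem exists_hom {M N : X.Modules} (P : ∀ U : X.Opens, Γ(M, U) → Γ(N, U) → Prop)
    (hres : ∀ (U V : X.Opens) (i : V ≤ U) (m : Γ(M, U)) (n : Γ(N, U)), P U m n → P V (res M i m) (res N i n))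
    (huniq : ∀ (U : X.Opens) (m : Γ(M, U)) (n n' : Γ(N, U)), P U m n → P U m n' → n = n')
    (hex : ∀ (U : X.Opens) (m : Γ(M, U)) (x : X), x ∈ U → ∃ (V : X.Opens) (i : V ≤ U) (n : Γ(N, V)), x ∈ V ∧
      P V (res M i m) n)
    (hloc : ∀ (U : X.Opens) (m : Γ(M, U)) (n : Γ(N, U)),
      (∀ x ∈ U, ∃ (V : X.Opens) (i : V ≤ U), x ∈ V ∧ P V (res M i m) (res N i n)) → P U m n)
    (hadd : ∀ (U : X.Opens) (m m' : Γ(M, U)) (n n' : Γ(N, U)), P U m n → P U m' n' → P U (m + m') (n + n'))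
    (hsmul : ∀ (U : X.Opens) (a : Γ(X, U)) (m : Γ(M, U)) (n : Γ(N, U)), P U m n → P U (a • m) (a • n)) :
    ∃ φ : M ⟶ N, ∀ (U : X.Opens) (m : Γ(M, U)), P U m (φ.app U m) := by
  have key : ∀ (U : X.Opens) (m : Γ(M, U)), ∃ n : Γ(N, U), P U m n := by
    intro U m
    choose V i n hx hP using hex U m
    obtain ⟨t, ht⟩ := res_glue N (V := U) (fun x : U => V x.1 x.2) (fun x => i x.1 x.2)
      (fun x hx' => Opens.mem_iSup.mpr ⟨⟨x, hx'⟩, hx x hx'⟩) (fun x => n x.1 x.2) (by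
        intro x y
        refine huniq _ (res M ((inf_le_left : V x.1 x.2 ⊓ V y.1 y.2 ≤ V x.1 x.2).trans (i x.1 x.2)) m) _ _ ?_ ?_
        · have h1 := hres _ _ (inf_le_left : V x.1 x.2 ⊓ V y.1 y.2 ≤ V x.1 x.2) _ _ (hP x.1 x.2)
          rwa [res_res] at h1
        · have h1 := hres _ _ (inf_le_right : V x.1 x.2 ⊓ V y.1 y.2 ≤ V y.1 y.2) _ _ (hP y.1 y.2)
          rwa [res_res] at h1)
    exact ⟨t, hloc U m t fun x hx' => ⟨V x hx', i x hx', hx x hx', by rw [ht ⟨x, hx'⟩]; exact hP x hx'⟩⟩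
  choose f hf using key
  have hadd' : ∀ (U : X.Opens) (m m' : Γ(M, U)), f U (m + m') = f U m + f U m' := fun U m m' =>
    huniq U _ _ _ (hf U _) (hadd U _ _ _ _ (hf U m) (hf U m'))
  have hlin : ∀ (U : X.Opens) (a : Γ(X, U)) (m : Γ(M, U)), f U (a • m) = a • f U m := fun U a m =>
    huniq U _ _ _ (hf U _) (hsmul U a _ _ (hf U m))
  have hnat : ∀ (U V : X.Opens) (h : V ≤ U) (m : Γ(M, U)), f V (res M h m) = res N h (f U m) := fun U V h m =>
    huniq V _ _ _ (hf V _) (hres U V h _ _ (hf U m))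
  exact ⟨mkHom (fun U => AddMonoidHom.mk' (f U) (hadd' U)) hlin hnat, fun U m => hf U m⟩

section rho

variable {V : Scheme.{u}} {L : X.Modules} {π : V ⟶ X} {j : X ⟶ V} (B : K30.LBdl.LineBdl L π j)

/-- The tautological section of the line bundle as a morphism. -/
theorem exists_rho : ∃ ρ : L ⟶ Oalg π, ∀ (A : X.Opens) (hA : IsAffineOpen A) (e : Γ(L, A)),
    va π ρ e = B.tau A hA e := by
  suffices H : ∃ ρ : L ⟶ Oalg π, ∀ (U : X.Opens) (m : Γ(L, U)), ∀ (A : X.Opens) (hA : IsAffineOpen A) (i : A ≤ U),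
      toFun π A (res (Oalg π) i (ρ.app U m)) = B.tau A hA (res L i m) by
    obtain ⟨ρ, hρ⟩ := H
    refine ⟨ρ, fun A hA e => ?_⟩
    have h1 := hρ A e A hA le_rfl
    rwa [res_refl, res_refl] at h1
  refine exists_hom (M := L) (N := Oalg π)
    (fun U m n => ∀ (A : X.Opens) (hA : IsAffineOpen A) (i : A ≤ U),
      toFun π A (res (Oalg π) i n) = B.tau A hA (res L i m)) ?_ ?_ ?_ ?_ ?_ ?_
  · intro U W i m n h A hA i'
    rw [res_res, res_res]
    exact h A hA (i'.trans i)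
  · intro U m n n' h h'
    have hcov : ∀ x ∈ U, ∃ A : X.Opens, IsAffineOpen A ∧ A ≤ U ∧ x ∈ A := by
      intro x hx
      obtain ⟨A, hA, hxA, hAU⟩ := (Opens.isBasis_iff_nbhd.1 X.isBasis_affineOpens) hx
      exact ⟨A, hA, hAU, hxA⟩
    choose A hA hAU hx using hcov
    refine res_ext (Oalg π) (V := U) (fun x : U => A x.1 x.2) (fun x => hAU _ _)
      (fun x hx' => Opens.mem_iSup.mpr ⟨⟨x, hx'⟩, hx x hx'⟩) fun x => ?_
    apply (toFun π _).injective
    rw [h _ (hA x.1 x.2) (hAU _ _), h' _ (hA x.1 x.2) (hAU _ _)]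
  · intro U m x hx
    obtain ⟨A, hA, hxA, hAU⟩ := (Opens.isBasis_iff_nbhd.1 X.isBasis_affineOpens) hx
    refine ⟨A, hAU, (toFun π A).symm (B.tau A hA (res L hAU m)), hxA, fun A' hA' i => ?_⟩
    rw [← B.tau_res A A' hA hA' i]
    rfl
  · intro U m n h A hA i
    have h1 : ∀ x ∈ A, ∃ A' : X.Opens, IsAffineOpen A' ∧ A' ≤ A ∧ x ∈ A' ∧
        ∀ (i' : A' ≤ U) (hA' : IsAffineOpen A'), toFun π A' (res (Oalg π) i' n) = B.tau A' hA' (res L i' m) := by
      intro x hx
      obtain ⟨W, iW, hxW, hW⟩ := h x (i hx)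
      obtain ⟨A', hA', hxA', hA'W⟩ := (Opens.isBasis_iff_nbhd.1 X.isBasis_affineOpens) (show x ∈ A ⊓ W from ⟨hx, hxW⟩)
      refine ⟨A', hA', hA'W.trans inf_le_left, hxA', fun i' hA'' => ?_⟩
      have h2 := hW A' hA'' (hA'W.trans inf_le_right)
      rwa [res_res, res_res] at h2
    choose A' hA' hA'A hx hP using h1
    apply (toFun π A).symm.injective
    rw [AddEquiv.symm_apply_apply]
    refine res_ext (Oalg π) (V := A) (fun x : A => A' x.1 x.2) (fun x => hA'A _ _)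
      (fun x hx' => Opens.mem_iSup.mpr ⟨⟨x, hx'⟩, hx x hx'⟩) fun x => ?_
    apply (toFun π _).injective
    rw [res_res, hP x.1 x.2 _ (hA' x.1 x.2), ← res_res (h := i) (h' := hA'A x.1 x.2),
      ← B.tau_res A _ hA (hA' x.1 x.2) (hA'A x.1 x.2)]
    rfl
  · intro U m m' n n' h h' A hA i
    rw [map_add, map_add, h A hA i, h' A hA i, map_add, map_add]
  · intro U a m n h A hA i
    rw [res_smul, res_smul, toFun_smul, B.tau_smul, h A hA i]

end rho

section rho'

variable {L L' : X.Modules} (θ : CohB1.tensorMod L L' ⟶ Coh.structureModule X) (h : Y ⟶ X) (ρ : L ⟶ Oalg h)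

open K38.LinePair in
/-- The inverse of a linear map with invertible values. -/
theorem exists_rho' (hL : PicF.IsInvertible L) (H : uO h ρ = ⊤) :
    ∃ ρ' : L' ⟶ Oalg h, ∀ (U : X.Opens) (e : Γ(L, U)) (e' : Γ(L', U)),
      va h ρ e * va h ρ' e' = (h.app U).hom (pair θ e e') := by
  suffices H : ∃ ρ' : L' ⟶ Oalg h, ∀ (U : X.Opens) (m : Γ(L', U)), ∀ (W : X.Opens) (i : W ≤ U) (e : Γ(L, W)),
      va h ρ e * toFun h W (res (Oalg h) i (ρ'.app U m)) = (h.app W).hom (pair θ e (res L' i m)) by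
    obtain ⟨ρ', hρ'⟩ := H
    refine ⟨ρ', fun U e e' => ?_⟩
    have h1 := hρ' U e' U le_rfl e
    rwa [res_refl, res_refl] at h1
  refine exists_hom (M := L') (N := Oalg h)
    (fun U m n => ∀ (W : X.Opens) (i : W ≤ U) (e : Γ(L, W)),
      va h ρ e * toFun h W (res (Oalg h) i n) = (h.app W).hom (pair θ e (res L' i m))) ?_ ?_ ?_ ?_ ?_ ?_
  · intro U W i m n hP W' i' e
    rw [res_res, res_res]
    exact hP W' (i'.trans i) e
  · intro U m n n' hP hP'
    rw [isInvertible_iff] at hL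
    choose W e hx he using hL
    refine res_ext (Oalg h) (V := U) (fun x : U => W x.1 ⊓ U) (fun x => inf_le_right)
      (fun x hx' => Opens.mem_iSup.mpr ⟨⟨x, hx'⟩, ⟨hx x, hx'⟩⟩) fun x => ?_
    apply (toFun h _).injective
    have hu : IsUnit (va h ρ (res L (inf_le_left : W x.1 ⊓ U ≤ W x.1) (e x.1))) :=
      isUnit_va H ((he x.1).res _)
    apply hu.mul_left_cancel
    rw [hP _ inf_le_right, hP' _ inf_le_right]
  · intro U m x hx
    rw [isInvertible_iff] at hL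
    obtain ⟨W, e, hxW, he⟩ := hL x
    have he' : IsGen (res L (inf_le_left : W ⊓ U ≤ W) e) := he.res _
    have hu : IsUnit (va h ρ (res L (inf_le_left : W ⊓ U ≤ W) e)) := isUnit_va H he'
    refine ⟨W ⊓ U, inf_le_right, (toFun h _).symm (((hu.unit⁻¹ : Γ(Y, h ⁻¹ᵁ (W ⊓ U))ˣ) : Γ(Y, h ⁻¹ᵁ (W ⊓ U))) *
      (h.app (W ⊓ U)).hom (pair θ (res L inf_le_left e) (res L' inf_le_right m))), ⟨hxW, hx⟩, fun W' i' g => ?_⟩
    obtain ⟨a, rfl⟩ := (he'.res i').exists_eq g
    have h2 : toFun h W' (res (Oalg h) i' ((toFun h _).symm (((hu.unit⁻¹ : Γ(Y, h ⁻¹ᵁ (W ⊓ U))ˣ) :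
        Γ(Y, h ⁻¹ᵁ (W ⊓ U))) * (h.app (W ⊓ U)).hom (pair θ (res L inf_le_left e) (res L' inf_le_right m))))) =
        ores (h.preimage_mono i') (((hu.unit⁻¹ : Γ(Y, h ⁻¹ᵁ (W ⊓ U))ˣ) : Γ(Y, h ⁻¹ᵁ (W ⊓ U))) *
          (h.app (W ⊓ U)).hom (pair θ (res L inf_le_left e) (res L' inf_le_right m))) := rfl
    rw [h2, va_smul, va_res, mul_assoc, ← map_mul, ← mul_assoc (va h ρ _), hu.mul_val_inv, one_mul, pair_smul_left,
      map_mul, pair_res]
    congr 1
    have h3 := h.naturality (homOfLE i').op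
    exact congr($h3 (pair θ (res L inf_le_left e) (res L' inf_le_right m))).symm
  · intro U m n hP W i e
    have h1 : ∀ x ∈ W, ∃ W' : X.Opens, ∃ (i' : W' ≤ W), x ∈ W' ∧
        ∀ (g : Γ(L, W')), va h ρ g * toFun h W' (res (Oalg h) (i'.trans i) n) =
          (h.app W').hom (pair θ g (res L' (i'.trans i) m)) := by
      intro x hx
      obtain ⟨W₁, iW, hxW, hW⟩ := hP x (i hx)
      refine ⟨W ⊓ W₁, inf_le_left, ⟨hx, hxW⟩, fun g => ?_⟩
      have h2 := hW (W ⊓ W₁) inf_le_right g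
      rwa [res_res, res_res] at h2
    choose W' i' hx hW using h1
    refine ores_ext (X := Y) (V := h ⁻¹ᵁ W) (fun x : W => h ⁻¹ᵁ (W' x.1 x.2)) (fun x => h.preimage_mono (i' _ _))
      (fun y hy => Opens.mem_iSup.mpr ⟨⟨h y, hy⟩, hx (h y) hy⟩) fun x => ?_
    have h2 := hW x.1 x.2 (res L (i' x.1 x.2) e)
    have h4 : toFun h (W' x.1 x.2) (res (Oalg h) ((i' x.1 x.2).trans i) n) =
        ores (h.preimage_mono (i' x.1 x.2)) (toFun h W (res (Oalg h) i n)) := by
      rw [← res_res (h := i) (h' := i' x.1 x.2)]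
      rfl
    rw [va_res, h4, ← map_mul] at h2
    refine Eq.trans h2 ?_
    rw [← res_res (h := i) (h' := i' x.1 x.2), pair_res]
    have h3 := h.naturality (homOfLE (i' x.1 x.2)).op
    exact congr($h3 (pair θ e (res L' i m)))
  · intro U m m' n n' hP hP' W i e
    have h1 : pair θ e (res L' i m + res L' i m') = pair θ e (res L' i m) + pair θ e (res L' i m') := by
      unfold K38.LinePair.pair
      rw [tmul_add, map_add, map_add]
    rw [map_add, map_add, mul_add, hP W i e, hP' W i e, map_add, h1, map_add]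
  · intro U a m n hP W i e
    rw [res_smul, res_smul, toFun_smul, pair_smul_right, map_mul, mul_left_comm, hP W i e]

end rho'

end Groth.Agent.Cone.K859.Glue

end
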