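import Groth.Agent.Cone.K859.Dec
import Groth.Agent.Cone.K859.Glue
import Groth.Agent.VarietyB.PullSec
import Groth.Agent.Ega2.QCohLocal
import Groth.Agent.Ega1.TensorRestrict
import Groth.Agent.S0012
import Groth.Prelude.Def_Omega3
import Mathlib.Algebra.Polynomial.Basis

/-!
# The direct image of the pullback of a module to a line bundle

`π : V(M) ⟶ X`: `π_* π^* N = ∐_{m ≥ 0} N ⊗ M^m`, hence the cohomology of `π^* N` vanishes in degree `d` exactly when
that of all the `N ⊗ M^m`, `m ≥ 0`, does.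
-/

set_option autoImplicit false
universe u

open CategoryTheory CategoryTheory.Limits AlgebraicGeometry Opposite TopologicalSpace

noncomputable section

namespace Groth.Agent.Cone.K859.Pol

section ring

variable {R S N P : Type*} [CommRing R] [CommRing S] [Algebra R S] [AddCommGroup N] [Module R N]
  [AddCommGroup P] [Module R P] [Module S P] [IsScalarTower R S P] (t : S)
  (hb : Function.Bijective (Polynomial.aeval (R := R) t)) (g : N →ₗ[R] P) (hg : IsBaseChange S g)

/-- The powers of `t` as a basis. -/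
def bas : Module.Basis ℕ R S := (Polynomial.basisMonomials R).map (AlgEquiv.ofBijective (Polynomial.aeval t) hb).toLinearEquiv

theorem bas_apply (m : ℕ) : bas t hb m = t ^ m := by
  unfold bas
  rw [Module.Basis.map_apply, Polynomial.coe_basisMonomials]
  change Polynomial.aeval t (Polynomial.monomial m 1) = t ^ m
  rw [Polynomial.aeval_monomial, map_one, one_mul]

variable {g}

/-- Polynomials with coefficients in `N`. -/
def eqv : (ℕ →₀ N) ≃ₗ[R] P :=
  (TensorProduct.equivFinsuppOfBasisLeft (bas t hb)).symm.trans (hg.equiv.restrictScalars R)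

theorem eqv_apply (f : ℕ →₀ N) : eqv t hb hg f = f.sum fun m n => t ^ m • g n := by
  unfold eqv
  rw [LinearEquiv.trans_apply, TensorProduct.equivFinsuppOfBasisLeft_symm_apply]
  unfold Finsupp.sum
  rw [map_sum]
  refine Finset.sum_congr rfl fun m _ => ?_
  change hg.equiv (TensorProduct.tmul R (bas t hb m) (f m)) = t ^ m • g (f m)
  rw [bas_apply]
  exact hg.equiv_tmul _ _

include hb hg in
theorem exists_poly (x : P) : ∃ (s : Finset ℕ) (y : ℕ → N), x = ∑ m ∈ s, t ^ m • g (y m) := by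
  obtain ⟨f, rfl⟩ := (eqv t hb hg).surjective x
  exact ⟨f.support, f, eqv_apply t hb hg f⟩

include hb hg in
theorem eq_zero_of_poly (s : Finset ℕ) (y : ℕ → N) (h : ∑ m ∈ s, t ^ m • g (y m) = 0) : ∀ m ∈ s, y m = 0 := by
  classical
  let f : ℕ →₀ N := ∑ m ∈ s, Finsupp.single m (y m)
  have h1 : eqv t hb hg f = 0 := by
    rw [← h, map_sum]
    refine Finset.sum_congr rfl fun m _ => ?_
    rw [eqv_apply, Finsupp.sum_single_index (by rw [map_zero, smul_zero])]
  have h2 : f = 0 := (LinearEquiv.map_eq_zero_iff _).1 h1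
  intro m hm
  have h3 := congrArg (fun F : ℕ →₀ N => F m) h2
  simp only [f, Finsupp.coe_finset_sum, Finset.sum_apply, Finsupp.single_apply, Finsupp.coe_zero, Pi.zero_apply] at h3
  rwa [Finset.sum_ite_eq' s m, if_pos hm] at h3

end ring

open Groth.Agent.Fdesc.LocGen Groth.Agent.CohqB.AlgSys Groth.Agent.Vancyc.H545.UnitLoc Groth.Agent.VarietyB

section tw

variable {X Y : Scheme.{u}} (h : Y ⟶ X) {M N : X.Modules} (ρ : M ⟶ Oalg h)

/-- The direct image of the pullback. -/
abbrev PP (N : X.Modules) : X.Modules := (Scheme.Modules.pushforward h).obj ((Scheme.Modules.pullback h).obj N)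

/-- Sections of the direct image. -/
def toSec (N : X.Modules) (U : X.Opens) : Γ(PP h N, U) ≃+ Γ((Scheme.Modules.pullback h).obj N, h ⁻¹ᵁ U) := AddEquiv.refl _

theorem toSec_smul (U : X.Opens) (a : Γ(X, U)) (m : Γ(PP h N, U)) :
    toSec h N U (a • m) = (h.app U).hom a • toSec h N U m := rfl

theorem toSec_res {U V : X.Opens} (i : V ≤ U) (m : Γ(PP h N, U)) :
    toSec h N V (res (PP h N) i m) = res _ (h.preimage_mono i) (toSec h N U m) := rfl

theorem pull_smul {U : X.Opens} (a : Γ(X, U)) (n : Γ(N, U)) :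
    OmegaSh.pullSect h N U (a • n) = (h.app U).hom a • OmegaSh.pullSect h N U n :=
  Scheme.Modules.Hom.app_smul ((Scheme.Modules.pullbackPushforwardAdjunction h).unit.app N) a n

theorem pull_res {U V : X.Opens} (i : V ≤ U) (n : Γ(N, U)) :
    OmegaSh.pullSect h N V (res N i n) = res _ (h.preimage_mono i) (OmegaSh.pullSect h N U n) :=
  app_res ((Scheme.Modules.pullbackPushforwardAdjunction h).unit.app N) i n

/-- The product of a function and a pulled back section. -/
def mulB (ρ : M ⟶ Oalg h) (U : X.Opens) :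
    Γ(N, U) →ₗ[Γ(X, U)] Γ(M, U) →ₗ[Γ(X, U)] Γ(PP h N, U) :=
  LinearMap.mk₂ _ (fun n m => (toSec h N U).symm (va h ρ m • OmegaSh.pullSect h N U n))
    (fun n n' m => by
      rw [map_add, smul_add, map_add])
    (fun r n m => by
      apply (toSec h N U).injective
      rw [toSec_smul, AddEquiv.apply_symm_apply, AddEquiv.apply_symm_apply, pull_smul, smul_comm])
    (fun n m m' => by
      have : va h ρ (m + m') = va h ρ m + va h ρ m' := by
        unfold va
        rw [map_add, map_add]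
      rw [this, add_smul, map_add])
    (fun r n m => by
      apply (toSec h N U).injective
      rw [toSec_smul, AddEquiv.apply_symm_apply, AddEquiv.apply_symm_apply, va_smul, mul_smul])

/-- The product map `N ⊗ M ⟶ π_* π^* N`. -/
def mulPP (N : X.Modules) (ρ : M ⟶ Oalg h) : CohB1.tensorMod N M ⟶ PP h N :=
  Groth.Agent.Ega2.Tens.lift (mulB h ρ) (by
    intro U V i n m
    apply (toSec h N V).injective
    change res _ (h.preimage_mono i.le) (va h ρ m • OmegaSh.pullSect h N U n) =
      va h ρ (res M i.le m) • OmegaSh.pullSect h N V (res N i.le n)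
    rw [va_res, pull_res, res_smul])

theorem mulPP_tmul {U : X.Opens} (n : Γ(N, U)) (m : Γ(M, U)) :
    toSec h N U ((mulPP h N ρ).app U (tmul n m)) = va h ρ m • OmegaSh.pullSect h N U n :=
  congrArg (toSec h N U) (Groth.Agent.Ega2.Tens.lift_tmul (mulB h ρ) _ U n m)

end tw

section main

variable {X V : Scheme.{u}} {M : X.Modules} {π : V ⟶ X} {j : X ⟶ V} (B : K30.LBdl.LineBdl M π j)
  {N : X.Modules} (hN : Coh.IsQCoh N)

/-- Affine opens with a generator. -/
def Good (M : X.Modules) : Type u := {A : X.Opens // IsAffineOpen A ∧ ∃ e : Γ(M, A), IsGen e}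

theorem isBasis_good (hM : PicF.IsInvertible M) : Opens.IsBasis (Set.range fun A : Good M => A.1) := by
  rw [Opens.isBasis_iff_nbhd]
  intro U x hx
  obtain ⟨W, e, hxW, he⟩ := (isInvertible_iff M).1 hM x
  obtain ⟨A, hA, hxA, hAU⟩ := (Opens.isBasis_iff_nbhd.1 X.isBasis_affineOpens) (show x ∈ U ⊓ W from ⟨hx, hxW⟩)
  exact ⟨A, ⟨⟨A, hA, res M (hAU.trans inf_le_right) e, he.res _⟩, rfl⟩, hxA, hAU.trans inf_le_left⟩

include B hN in
/-- The decomposition of `π_* π^* N` in `N ⊗ M^m`. -/
theorem exists_dec : ∃ φ : ∀ m : ℕ, CohB1.tensorMod N (CohB1.tensorPow M m) ⟶ PP π N,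
    (∀ (A : Good M) (x : Γ(PP π N, A.1)), ∃ (s : Finset ℕ) (y : ∀ m, Γ(CohB1.tensorMod N (CohB1.tensorPow M m), A.1)),
      x = ∑ m ∈ s, (φ m).app A.1 (y m)) ∧
    (∀ (A : Good M) (s : Finset ℕ) (y : ∀ m, Γ(CohB1.tensorMod N (CohB1.tensorPow M m), A.1)),
      ∑ m ∈ s, (φ m).app A.1 (y m) = 0 → ∀ m ∈ s, y m = 0) := by
  have := B.affine
  obtain ⟨ρ, hρ⟩ := Glue.exists_rho B
  refine ⟨fun m => mulPP π N (pw π ρ m), fun A x => ?_, fun A s y hs => ?_⟩
  all_goals
    obtain ⟨A, hA, e, he⟩ := A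
    have hW : IsAffineOpen (π ⁻¹ᵁ A) := hA.preimage π
    let j1 : Algebra Γ(X, A) Γ(V, π ⁻¹ᵁ A) := (π.appLE A (π ⁻¹ᵁ A) le_rfl).hom.toAlgebra
    let j2 := PullSec.secModule π N (le_refl (π ⁻¹ᵁ A))
    have j3 : IsScalarTower Γ(X, A) Γ(V, π ⁻¹ᵁ A) Γ((Scheme.Modules.pullback π).obj N, π ⁻¹ᵁ A) :=
        ⟨fun a b c => by rw [Algebra.smul_def, mul_smul]; rfl⟩
    have hbc := PullSec.isBaseChange_secₗ π N (le_refl (π ⁻¹ᵁ A)) hN hA hW
    have hsec : ∀ n : Γ(N, A), PullSec.secₗ π N (le_refl (π ⁻¹ᵁ A)) n = OmegaSh.pullSect π N A n := by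
      intro n
      change ((Scheme.Modules.pullback π).obj N).presheaf.map (homOfLE _).op (OmegaSh.pullSect π N A n) = _
      have h2 : (homOfLE (le_refl (π ⁻¹ᵁ A))).op = 𝟙 _ := rfl
      rw [h2, CategoryTheory.Functor.map_id]
      rfl
    have hb : Function.Bijective (Polynomial.aeval (R := Γ(X, A)) (B.tau A hA e)) := by
      have h3 := B.bij A hA e he
      have h4 : π.appLE A (π ⁻¹ᵁ A) le_rfl = π.app A := Scheme.Hom.appLE_eq_app _
      have h5 : ((π.app A).hom : Γ(X, A) →+* Γ(V, π ⁻¹ᵁ A)) = algebraMap Γ(X, A) Γ(V, π ⁻¹ᵁ A) := by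
        rw [RingHom.algebraMap_toAlgebra, h4]
      rw [h5] at h3
      exact h3
    have hval : ∀ (m : ℕ) (n : Γ(N, A)), toSec π N A ((mulPP π N (pw π ρ m)).app A (tmul n (pow e m))) =
        B.tau A hA e ^ m • PullSec.secₗ π N (le_refl (π ⁻¹ᵁ A)) n := by
      intro m n
      rw [mulPP_tmul, va_pw, hρ A hA e, hsec]
  · obtain ⟨s, y, hx⟩ := exists_poly (B.tau A hA e) hb hbc (toSec π N A x)
    refine ⟨s, fun m => tmul (y m) (pow e m), ?_⟩
    apply (toSec π N A).injective
    rw [hx, map_sum]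
    exact Finset.sum_congr rfl fun m _ => (hval m (y m)).symm
  · have hbij : ∀ m, Function.Bijective (fun n : Γ(N, A) => tmul n (pow e m)) := by
      intro m
      have h3 := tmul_right_bijective N (he.pow m) le_rfl
      simpa only [res_refl] using h3
    choose n hn using fun m => (hbij m).2 (y m)
    have h1 := eq_zero_of_poly (B.tau A hA e) hb hbc s n (by
      have h2 := congrArg (toSec π N A) hs
      rw [map_sum, map_zero] at h2
      refine Eq.trans (Finset.sum_congr rfl fun m _ => ?_) h2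
      exact (hval m (n m)).symm.trans (by
        have h3 := hn m
        simp only at h3
        rw [h3]))
    intro m hm
    have h3 := hn m
    simp only at h3
    rw [← h3, h1 m hm]
    exact (tmulLin N (CohB1.tensorPow M m) A).map_zero ▸ congrArg _ (TensorProduct.zero_tmul _ _)

include B hN in
/-- **Cohomology of the pullback to a line bundle.** -/
theorem subsingleton_HH_iff [CompactSpace X] [QuasiSeparatedSpace X] (hM : PicF.IsInvertible M) (d : ℕ) :
    Subsingleton (Coh.HH V ((Scheme.Modules.pullback π).obj N) d) ↔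
      ∀ m : ℕ, Subsingleton (Coh.HH X (CohB1.tensorMod N (CohB1.tensorPow M m)) d) := by
  obtain ⟨φ, hs, hi⟩ := exists_dec B hN
  have h1 := B.affine
  have h2 : Coh.IsQCoh ((Scheme.Modules.pullback π).obj N) := PullSec.isQCoh_pullback π N hN
  have hpow : ∀ m : ℕ, Coh.IsQCoh (CohB1.tensorPow M m) := fun m => by
    refine Groth.Agent.Ega2.QCohLocal.isQCoh_of_isInvertible ((isInvertible_iff _).2 fun x => ?_)
    obtain ⟨W, e, hxW, he⟩ := (isInvertible_iff M).1 hM x
    exact ⟨W, pow e m, hxW, he.pow m⟩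
  obtain ⟨e⟩ := Groth.Agent.S0012.result π ((Scheme.Modules.pullback π).obj N) d
  rw [e.toEquiv.subsingleton_congr]
  refine (Dec.subsingleton_HH_iff_of_dec (F := PP π N)
    (fun m : ULift.{u} ℕ => CohB1.tensorMod N (CohB1.tensorPow M m.down))
    (fun m => ?_)
    (fun m => φ m.down) (fun A : Good M => A.1) (isBasis_good hM) (fun A => A.2.1) ?_ ?_ d).trans
    ⟨fun h m => h ⟨m⟩, fun h m => h m.down⟩
  · exact @Groth.Agent.Ega1.TensorRestrict.isQCoh_tensorMod _ _ _ hN (hpow m.down)
  · intro A x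
    obtain ⟨s, y, rfl⟩ := hs A x
    refine ⟨s.map Equiv.ulift.symm.toEmbedding, fun m => y m.down, ?_⟩
    rw [Finset.sum_map]
    rfl
  · intro A s y h m hm
    refine hi A (s.map Equiv.ulift.toEmbedding) (fun m => y ⟨m⟩) ?_ m.down ?_
    · rw [Finset.sum_map]
      exact h
    · rw [Finset.mem_map]
      exact ⟨m, hm, rfl⟩

end main

end Groth.Agent.Cone.K859.Pol

end
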