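import Groth.Agent.Cone.K859.Can
import Groth.Agent.Cone.K859.Pol
import Groth.Agent.Cone.K859.GrAug
import Groth.Agent.Cone.K859.Geo
import Groth.Agent.Krr.H454.Bridge
import Groth.Agent.S4457
import Groth.Agent.Fga.PicMon
import Groth.Agent.Divis.NormAmple
import Groth.Agent.Ega2.RelAmp
import Groth.Agent.EGA2.K30.Grauert5
import Groth.Agent.EGA2.K30.CtrFac
import Groth.Agent.Ega3B.ClopenLift

/-!
# Vanishing for the canonical sheaf of a line bundle and for its contractors
-/

set_option autoImplicit false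
universe u

open CategoryTheory CategoryTheory.Limits AlgebraicGeometry Opposite TopologicalSpace

noncomputable section

namespace Groth.Agent.Cone.K859.Ctr

open Groth.Agent.Fdesc.LocGen K30.LBdl K30.CtrFac

/-- Cohomology of the canonical sheaf of the line bundle `V(M)`. -/
theorem subsingleton_HH_canonical_iff {X S : Scheme.{u}} (f : X ⟶ S) (d : ℕ) [SmoothOfRelativeDimension d f]
    [QuasiSeparated f] [CompactSpace X] [QuasiSeparatedSpace X]
    {M : X.Modules} (hM : PicF.IsInvertible M) (hMq : Coh.IsQCoh M)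
    (A : RelSpec.QCAlg X) (j : M ⟶ A.toModule) (hA : RelSpec.IsSymAlg M A j)
    {ωX : X.Modules} (hω : Canon.IsTopDiff f d ωX) {ωV : A.spec.Modules} (hV : Canon.IsTopDiff (A.π ≫ f) (d + 1) ωV)
    (i : ℕ) :
    Subsingleton (Coh.HH A.spec ωV i) ↔
      ∀ m : ℕ, Subsingleton (Coh.HH X (CohB1.tensorMod ωX (CohB1.tensorPow M (m + 1))) i) := by
  obtain ⟨j0, ⟨B⟩⟩ := Geo.exists_lineBdl hMq hA
  obtain ⟨e⟩ := Can.nonempty_iso_canonical f d hM hMq A j hA hω hV
  have hωq : Coh.IsQCoh ωX := K583.ExtPowPull.isQCoh_of_isExtPow (Vancyc.H878.OmegaRank.isQCoh_omega f) hω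
  have hN : Coh.IsQCoh (CohB1.tensorMod M ωX) := @Groth.Agent.Ega1.TensorRestrict.isQCoh_tensorMod _ _ _ hMq hωq
  rw [← Dec.subsingleton_HH_iff_of_iso e i, Pol.subsingleton_HH_iff B hN hM i]
  refine forall_congr' fun m => ?_
  have h1 : Nonempty (CohB1.tensorMod (CohB1.tensorMod M ωX) (CohB1.tensorPow M m) ≅
      CohB1.tensorMod ωX (CohB1.tensorPow M (m + 1))) := by
    rw [← Fga.PicMon.mc_eq_iff, Fga.PicMon.mc_tensor, Fga.PicMon.mc_tensor, Fga.PicMon.mc_tensor,
      Fga.PicMon.mc_tensorPow, Fga.PicMon.mc_tensorPow, pow_succ]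
    rw [mul_comm (Fga.PicMon.mc M) (Fga.PicMon.mc ωX), mul_assoc, mul_comm (Fga.PicMon.mc M)]
  obtain ⟨e'⟩ := h1
  exact Dec.subsingleton_HH_iff_of_iso e' i

theorem finite_of_injective {R A B : Type*} [CommRing R] [IsNoetherianRing R] [CommRing A] [CommRing B]
    (f : R →+* A) (g : A →+* B) (hg : Function.Injective g) (h : (g.comp f).Finite) : f.Finite := by
  let _ := f.toAlgebra
  let _ := (g.comp f).toAlgebra
  have h1 : Module.Finite R B := h
  let G : A →ₗ[R] B :=
    { toFun := g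
      map_add' := map_add g
      map_smul' := fun r a => by
        rw [Algebra.smul_def, map_mul, RingHom.id_apply, Algebra.smul_def]
        rfl }
  exact Module.Finite.of_injective G hg

open Groth.Agent.Flat2G.ContrRed in
/-- A proper morphism `V ⟶ C` with `C` affine and `Γ(C) ⟶ Γ(V)` injective: if `V` is of finite type over the affine
Noetherian scheme `S`, then so is `C`. -/
theorem locallyOfFiniteType_of_proper {V C S : Scheme.{u}} [IsAffine C] [IsAffine S] [IsNoetherianRing Γ(S, ⊤)]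
    (q : V ⟶ C) [IsProper q] (hq : Function.Injective q.appTop.hom) (g : C ⟶ S) [LocallyOfFiniteType (q ≫ g)] :
    LocallyOfFiniteType g := by
  obtain ⟨n, ψ, hψ, -, hprop⟩ := exists_poly q g ∅
  have hN : IsNoetherianRing Γ(Spec (poly S n), ⊤) :=
    isNoetherianRing_of_ringEquiv _ (Scheme.ΓSpecIso (poly S n)).symm.commRingCatIsoToRingEquiv
  have h1 := Groth.Agent.FlatA.SteinNoeth.finite_appTop (q ≫ toSpec ψ)
  rw [Scheme.Hom.comp_appTop] at h1
  have h2 : (toSpec ψ).appTop.hom.Finite := finite_of_injective _ _ hq h1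
  have h3 : IsFinite (toSpec ψ) := by
    rw [HasAffineProperty.iff_of_isAffine (P := @IsFinite)]
    exact ⟨inferInstance, h2⟩
  have h4 : LocallyOfFiniteType (Spec.map (CommRingCat.ofHom (MvPolynomial.C (R := Γ(S, ⊤)) (σ := Fin n)))) := by
    rw [HasRingHomProperty.Spec_iff (P := @LocallyOfFiniteType)]
    exact (RingHom.finiteType_algebraMap (A := Γ(S, ⊤)) (B := MvPolynomial (Fin n) Γ(S, ⊤))).2 inferInstance
  rw [← hψ]
  infer_instance

section factor

variable {k : Type u} [Field k]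

/-- The structure morphism of the spectrum of the global functions. -/
def toK {V : Scheme.{u}} (h : V ⟶ Spec (CommRingCat.of k)) : Spec Γ(V, ⊤) ⟶ Spec (CommRingCat.of k) :=
  Spec.map ((Scheme.ΓSpecIso (CommRingCat.of k)).inv ≫ h.appTop)

theorem toSpecΓ_toK {V : Scheme.{u}} (h : V ⟶ Spec (CommRingCat.of k)) : V.toSpecΓ ≫ toK h = h := by
  rw [toK, Spec.map_comp, ← Scheme.toSpecΓ_naturality_assoc, toSpecΓ_SpecMap_ΓSpecIso_inv, Category.comp_id]

variable {X : Scheme.{u}} (f : X ⟶ Spec (CommRingCat.of k)) [IsProper f] {M : X.Modules}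
  (hamp : CohB1.IsAmple M) {V : Scheme.{u}} {π : V ⟶ X} {j : X ⟶ V} (B : LineBdl M π j)

include B hamp in
/-- **The Stein factorization of a contractor of the zero section.** -/
theorem exists_factor {C : Scheme.{u}} (g : C ⟶ Spec (CommRingCat.of k)) [IsSeparated g]
    (ε : Spec (CommRingCat.of k) ⟶ C) (q : V ⟶ C) (hjq : j ≫ q = f ≫ ε) :
    ∃ (C' : Scheme.{u}) (q' : V ⟶ C') (u : C' ⟶ C), IsAffine C' ∧ IsProper q' ∧ IsAffineHom u ∧ q' ≫ u = q := by
  have := B.affine
  have hXc : CompactSpace X := QuasiCompact.compactSpace_of_compactSpace f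
  have hXs : QuasiSeparatedSpace X := quasiSeparatedSpace_of_quasiSeparated f
  have hVc : CompactSpace V := QuasiCompact.compactSpace_of_compactSpace π
  have hVs : QuasiSeparatedSpace V := quasiSeparatedSpace_of_quasiSeparated (π ≫ f)
  have hpf : X.toSpecΓ ≫ toK f = f := toSpecΓ_toK f
  have hp : IsProper X.toSpecΓ := by
    have : IsProper (X.toSpecΓ ≫ toK f) := by rw [hpf]; infer_instance
    exact IsProper.of_comp X.toSpecΓ (toK f)
  have hpc : IsIso X.toSpecΓ.c := by
    have h1 : ∀ U : (Spec Γ(X, ⊤)).Opens, IsIso (X.toSpecΓ.app U) := fun U =>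
      Groth.Agent.Ega3B.ClopenLift.isIso_toSpecΓ_app X U
    have h2 : ∀ U, IsIso (X.toSpecΓ.c.app U) := fun U => h1 U.unop
    exact NatIso.isIso_of_isIso_app _
  let g' : Spec Γ(V, ⊤) ⟶ Spec Γ(X, ⊤) := Spec.map π.appTop
  have hqg' : V.toSpecΓ ≫ g' = π ≫ X.toSpecΓ := (Scheme.toSpecΓ_naturality π).symm
  have hb : ∀ U : (Spec Γ(X, ⊤)).Opens, IsAffineOpen U → Function.Bijective (V.toSpecΓ.app (g' ⁻¹ᵁ U)).hom := by
    intro U _
    have := Groth.Agent.Ega3B.ClopenLift.isIso_toSpecΓ_app V (g' ⁻¹ᵁ U)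
    exact ConcreteCategory.bijective_of_isIso _
  obtain ⟨ε', O, P⟩ := exists_pack B (Groth.Agent.Ega2.Ample.locGen_top_iff.2 hamp.1)
    (Groth.Agent.Ega2.RelAmp.isRelAmple_iff_isAmple.2 hamp) hqg' hb
  have i1 := P.surj
  have i2 := P.isIso_c
  have hjq' : j ≫ q = X.toSpecΓ ≫ (toK f ≫ ε) := by rw [reassoc_of% hpf]; exact hjq
  obtain ⟨u, hu⟩ := (Groth.Agent.S3567.result V.toSpecΓ P.isQuotientMap C).2 q fun v v' h => P.const hjq' h
  refine ⟨_, V.toSpecΓ, u, inferInstance, P.proper, ?_, hu⟩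
  have h3 : IsAffineHom (u ≫ g) := isAffineHom_of_isAffine _
  exact IsAffineHom.of_comp u g

end factor

end Groth.Agent.Cone.K859.Ctr

end
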