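import Groth.Agent.Cone.K859.Dec
import Groth.Agent.Cone.K859.Glue
import Groth.Agent.EGA2.K30.FibAlg
import Groth.Agent.Ega2.QCohLocal
import Groth.Agent.S0012
import Mathlib.Algebra.Polynomial.Laurent

/-!
# The direct image of the structure sheaf of a line bundle minus its zero section

`h : V ∖ 0 ⟶ X`: `h_* O = ∐_{n ∈ ℤ} L^n`, hence the cohomology of the structure sheaf of `V ∖ 0` vanishes in degree `d`
exactly when that of all the `L^n`, `n ∈ ℤ`, does.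
-/

set_option autoImplicit false
universe u

open CategoryTheory CategoryTheory.Limits AlgebraicGeometry Opposite TopologicalSpace

noncomputable section

namespace Groth.Agent.Cone.K859.Laur

section ring

open LaurentPolynomial

variable {R S S' : Type*} [CommRing R] [CommRing S] [CommRing S'] (f : R →+* S) (t : S)
  (hb : Function.Bijective (Polynomial.eval₂RingHom f t)) (g : S →+* S')
  (hsurj : ∀ x : S', ∃ (n : ℕ) (s : S), x * g t ^ n = g s) (hinj : ∀ s : S, g s = 0 → ∃ n : ℕ, t ^ n * s = 0)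
  (u : S'ˣ) (hu : (u : S') = g t)

include hb hu hsurj hinj in
theorem bijective_eval₂ : Function.Bijective (LaurentPolynomial.eval₂ (g.comp f) u) := by
  have h1 : ∀ p : Polynomial R, LaurentPolynomial.eval₂ (g.comp f) u (Polynomial.toLaurent p) =
      g (Polynomial.eval₂ f t p) := by
    intro p
    rw [LaurentPolynomial.eval₂_toLaurent, Polynomial.hom_eval₂, hu]
  constructor
  · rw [injective_iff_map_eq_zero]
    intro q hq
    obtain ⟨n, p, hp⟩ := exists_T_pow q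
    have h2 := h1 p
    rw [hp, map_mul, hq, zero_mul] at h2
    obtain ⟨m, hm⟩ := hinj _ h2.symm
    have h3 : Polynomial.eval₂RingHom f t (Polynomial.X ^ m * p) = 0 := by
      rw [map_mul, map_pow, Polynomial.coe_eval₂RingHom, Polynomial.eval₂_X]
      exact hm
    have h4 : Polynomial.X ^ m * p = 0 := hb.1 (h3.trans (map_zero _).symm)
    have h5 : p = 0 := by
      have := Polynomial.X_pow_mul (p := p) (n := m)
      rw [h4] at this
      exact Polynomial.mul_X_pow_eq_zero this.symm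
    rw [h5, map_zero] at hp
    exact ((isUnit_T (R := R) n).mul_left_eq_zero).1 hp.symm
  · intro x
    obtain ⟨n, s, hs⟩ := hsurj x
    obtain ⟨p, rfl⟩ := hb.2 s
    refine ⟨Polynomial.toLaurent p * T (-(n : ℤ)), ?_⟩
    rw [map_mul, h1, ← Polynomial.coe_eval₂RingHom, ← hs, LaurentPolynomial.eval₂_T_neg_n, ← hu, mul_assoc,
      ← mul_pow, Units.mul_inv, one_pow, mul_one]

include hb hu hsurj hinj in
theorem exists_laurent (x : S') : ∃ (s : Finset ℤ) (a : ℤ → R), x = ∑ n ∈ s, g (f (a n)) * ((u ^ n : S'ˣ) : S') := by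
  obtain ⟨q, rfl⟩ := (bijective_eval₂ f t hb g hsurj hinj u hu).2 x
  refine ⟨q.coeff.support, q.coeff, ?_⟩
  have h1 : q = ∑ n ∈ q.coeff.support, C (q.coeff n) * T n := by
    conv_lhs => rw [← AddMonoidAlgebra.sum_coeff_single q]
    rw [Finsupp.sum]
    exact Finset.sum_congr rfl fun n _ => single_eq_C_mul_T _ _
  conv_lhs => rw [h1]
  rw [map_sum]
  exact Finset.sum_congr rfl fun n _ => eval₂_C_mul_T _ _ _ _

include hb hu hsurj hinj in
theorem eq_zero_of_sum (s : Finset ℤ) (a : ℤ → R) (h : ∑ n ∈ s, g (f (a n)) * ((u ^ n : S'ˣ) : S') = 0) :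
    ∀ n ∈ s, a n = 0 := by
  have h1 : LaurentPolynomial.eval₂ (g.comp f) u (∑ n ∈ s, C (a n) * T n) = 0 := by
    rw [map_sum, ← h]
    exact Finset.sum_congr rfl fun n _ => eval₂_C_mul_T _ _ _ _
  have h2 : (∑ n ∈ s, C (a n) * T n : LaurentPolynomial R) = 0 :=
    (bijective_eval₂ f t hb g hsurj hinj u hu).1 (h1.trans (map_zero _).symm)
  intro n hn
  have h3 : (∑ m ∈ s, C (a m) * T m : LaurentPolynomial R).coeff n = 0 := by rw [h2]; rfl
  have h5 : ∀ (r : R) (m : ℤ), (C r * T m : LaurentPolynomial R).coeff n = if m = n then r else 0 := by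
    intro r m
    rw [← single_eq_C_mul_T]
    exact Finsupp.single_apply
  rw [AddMonoidAlgebra.coeff_sum, Finsupp.finset_sum_apply, Finset.sum_eq_single n, h5, if_pos rfl] at h3
  · exact h3
  · intro m _ hm
    rw [h5, if_neg hm]
  · intro hn'
    exact absurd hn hn'

end ring

section geom

open Groth.Agent.Fdesc.LocGen Groth.Agent.CohqB.AlgSys Groth.Agent.Vancyc.H545.UnitLoc K30.LBdl K30.FibAlg

theorem surj_open {V : Scheme.{u}} (V₀ W : V.Opens) (hW : IsAffineOpen W) (t : Γ(V, W))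
    (h : V₀ ⊓ W = V.basicOpen t) (x : Γ(V₀, V₀.ι ⁻¹ᵁ W)) :
    ∃ (n : ℕ) (F : Γ(V, W)), x * (V₀.ι.app W).hom t ^ n = (V₀.ι.app W).hom F := by
  have key : ∀ (W' : V.Opens) (i : W' ≤ W), W' = V.basicOpen t → ∀ x : Γ(V, W'),
      ∃ (n : ℕ) (F : Γ(V, W)), x * (ores i t) ^ n = ores i F := by
    rintro W' i rfl x
    exact surj_base hW t x
  rw [V₀.ι_app W]
  refine key (V₀.ι ''ᵁ V₀.ι ⁻¹ᵁ W) _ ?_ x
  rw [← h, Scheme.Hom.image_preimage_eq_opensRange_inf, Scheme.Opens.opensRange_ι]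

theorem inj_open {V : Scheme.{u}} (V₀ W : V.Opens) (hW : IsAffineOpen W) (t : Γ(V, W))
    (h : V₀ ⊓ W = V.basicOpen t) (F : Γ(V, W)) (hF : (V₀.ι.app W).hom F = 0) : ∃ n : ℕ, t ^ n * F = 0 := by
  have key : ∀ (W' : V.Opens) (i : W' ≤ W), W' = V.basicOpen t → ores i F = 0 → ∃ n : ℕ, t ^ n * F = 0 := by
    rintro W' i rfl h0
    exact inj_base hW t F h0
  rw [V₀.ι_app W] at hF
  refine key (V₀.ι ''ᵁ V₀.ι ⁻¹ᵁ W) _ ?_ hF
  rw [← h, Scheme.Hom.image_preimage_eq_opensRange_inf, Scheme.Opens.opensRange_ι]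

variable {X V : Scheme.{u}} {L L' : X.Modules} {π : V ⟶ X} {j : X ⟶ V} (B : LineBdl L π j)
  (V₀ : V.Opens) (hV₀ : (V₀ : Set V) = (Set.range j)ᶜ)

include hV₀ in
theorem inf_eq_basicOpen {A : X.Opens} (hA : IsAffineOpen A) {e : Γ(L, A)} (he : IsGen e) :
    V₀ ⊓ π ⁻¹ᵁ A = V.basicOpen (B.tau A hA e) := by
  ext v
  constructor
  · rintro ⟨hv, hvA⟩
    refine (K30.Grauert2.mem_basicOpen_tau_iff B hA he hvA).2 ?_
    have : v ∈ (V₀ : Set V) := hv
    rwa [hV₀] at this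
  · intro hv
    have hvA : v ∈ π ⁻¹ᵁ A := V.basicOpen_le _ hv
    refine ⟨?_, hvA⟩
    rw [hV₀]
    exact (K30.Grauert2.mem_basicOpen_tau_iff B hA he hvA).1 hv

/-- The powers of `L`. -/
def Npow (L L' : X.Modules) : ℤ → X.Modules
  | Int.ofNat n => CohB1.tensorPow L n
  | Int.negSucc n => CohB1.tensorPow L' (n + 1)

variable {Y : Scheme.{u}} (h : Y ⟶ X) (ρ : L ⟶ Oalg h) (ρ' : L' ⟶ Oalg h)

/-- The powers of a pair of mutually inverse linear maps. -/
def phi : ∀ n : ℤ, Npow L L' n ⟶ Oalg h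
  | Int.ofNat n => pw h ρ n
  | Int.negSucc n => pw h ρ' (n + 1)

/-- The powers of a pair of dual generators. -/
def gen {A : X.Opens} (e : Γ(L, A)) (e' : Γ(L', A)) : ∀ n : ℤ, Γ(Npow L L' n, A)
  | Int.ofNat n => pow e n
  | Int.negSucc n => pow e' (n + 1)

theorem isGen_gen {A : X.Opens} {e : Γ(L, A)} {e' : Γ(L', A)} (he : IsGen e) (he' : IsGen e') (n : ℤ) :
    IsGen (gen e e' n) := by
  cases n with
  | ofNat n => exact he.pow n
  | negSucc n => exact he'.pow (n + 1)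

theorem va_gen {A : X.Opens} {e : Γ(L, A)} {e' : Γ(L', A)} (U : Γ(Y, h ⁻¹ᵁ A)ˣ) (hU : (U : Γ(Y, h ⁻¹ᵁ A)) = va h ρ e)
    (hU' : ((U⁻¹ : Γ(Y, h ⁻¹ᵁ A)ˣ) : Γ(Y, h ⁻¹ᵁ A)) = va h ρ' e') (n : ℤ) :
    va h (phi h ρ ρ' n) (gen e e' n) = ((U ^ n : Γ(Y, h ⁻¹ᵁ A)ˣ) : Γ(Y, h ⁻¹ᵁ A)) := by
  cases n with
  | ofNat n =>
    refine (va_pw h ρ n e).trans ?_
    rw [← hU, Int.ofNat_eq_natCast, zpow_natCast, Units.val_pow_eq_pow_val]
  | negSucc n =>
    refine (va_pw h ρ' (n + 1) e').trans ?_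
    rw [← hU', zpow_negSucc, ← inv_pow, Units.val_pow_eq_pow_val]

theorem isInvertible_Npow (hL : PicF.IsInvertible L) (hL' : PicF.IsInvertible L') (n : ℤ) :
    PicF.IsInvertible (Npow L L' n) := by
  cases n with
  | ofNat n =>
    rw [isInvertible_iff] at hL
    exact (isInvertible_iff _).2 fun x => by
      obtain ⟨U, e, hx, he⟩ := hL x
      exact ⟨U, pow e n, hx, he.pow n⟩
  | negSucc n =>
    rw [isInvertible_iff] at hL'
    exact (isInvertible_iff _).2 fun x => by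
      obtain ⟨U, e, hx, he⟩ := hL' x
      exact ⟨U, pow e (n + 1), hx, he.pow (n + 1)⟩

section main

variable (hL : PicF.IsInvertible L) (hL' : PicF.IsInvertible L')
    (θ : CohB1.tensorMod L L' ⟶ Coh.structureModule X) [IsIso θ]

/-- Affine opens with a pair of dual generators. -/
def Good (θ : CohB1.tensorMod L L' ⟶ Coh.structureModule X) : Type u :=
  {A : X.Opens // IsAffineOpen A ∧ ∃ (e : Γ(L, A)) (e' : Γ(L', A)), IsGen e ∧ IsGen e' ∧ K38.LinePair.pair θ e e' = 1}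

include hL hL' in
theorem isBasis_good : Opens.IsBasis (Set.range fun A : Good θ => A.1) := by
  rw [Opens.isBasis_iff_nbhd]
  intro U x hx
  obtain ⟨t, ht⟩ := K38.LinePair.Pairing.exists_triv (K38.LinePair.ofIso θ hL hL') x
  obtain ⟨A, hA, hxA, hAU⟩ := (Opens.isBasis_iff_nbhd.1 X.isBasis_affineOpens) (show x ∈ U ⊓ t.V from ⟨hx, ht⟩)
  obtain ⟨h1, h2, h3⟩ := t.rel
  refine ⟨A, ⟨⟨A, hA, res L (hAU.trans inf_le_right) t.e, res L' (hAU.trans inf_le_right) t.e', h1.res _, h2.res _, ?_⟩,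
    rfl⟩, hxA, hAU.trans inf_le_left⟩
  rw [K38.LinePair.pair_res, h3, map_one]

include B hV₀ hL in
theorem isAffineHom_compl : IsAffineHom (V₀.ι ≫ π) := by
  have := B.affine
  refine isAffineHom_of_forall_exists_isAffineOpen _ fun x => ?_
  obtain ⟨U, e, hx, he⟩ := (isInvertible_iff L).1 hL x
  obtain ⟨A, hA, hxA, hAU⟩ := (Opens.isBasis_iff_nbhd.1 X.isBasis_affineOpens) hx
  refine ⟨A, hxA, hA, ?_⟩
  have h1 : IsAffineOpen (V.basicOpen (B.tau A hA (res L hAU e))) := (hA.preimage π).basicOpen _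
  rw [← inf_eq_basicOpen B V₀ hV₀ hA (he.res hAU)] at h1
  have h2 : V₀ ⊓ π ⁻¹ᵁ A = V₀.ι ''ᵁ (V₀.ι ⁻¹ᵁ (π ⁻¹ᵁ A)) := by
    rw [Scheme.Hom.image_preimage_eq_opensRange_inf, Scheme.Opens.opensRange_ι]
  rw [h2] at h1
  exact (V₀.ι.isAffineOpen_iff_of_isOpenImmersion).1 h1

include B hV₀ hL hL' in
/-- The decomposition of `h_* O` in powers of `L`. -/
theorem exists_dec : ∃ φ : ∀ n : ℤ, Npow L L' n ⟶ Oalg (V₀.ι ≫ π),
    (∀ (A : Good θ) (x : Γ(Oalg (V₀.ι ≫ π), A.1)), ∃ (s : Finset ℤ) (y : ∀ n, Γ(Npow L L' n, A.1)),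
      x = ∑ n ∈ s, (φ n).app A.1 (y n)) ∧
    (∀ (A : Good θ) (s : Finset ℤ) (y : ∀ n, Γ(Npow L L' n, A.1)),
      ∑ n ∈ s, (φ n).app A.1 (y n) = 0 → ∀ n ∈ s, y n = 0) := by
  have := B.affine
  obtain ⟨ρV, hρV⟩ := Glue.exists_rho B
  let h : (V₀ : Scheme.{u}) ⟶ X := V₀.ι ≫ π
  let ρ : L ⟶ Oalg h := ρV ≫ Omap h π V₀.ι rfl
  have hva : ∀ (A : X.Opens) (hA : IsAffineOpen A) (e : Γ(L, A)),
      va h ρ e = (V₀.ι.app (π ⁻¹ᵁ A)).hom (B.tau A hA e) := by
    intro A hA e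
    rw [← hρV A hA e]
    have h1 : V₀.ι.appLE (π ⁻¹ᵁ A) (V₀.ι ⁻¹ᵁ (π ⁻¹ᵁ A)) le_rfl = V₀.ι.app (π ⁻¹ᵁ A) := Scheme.Hom.appLE_eq_app _
    exact congr($h1 (va π ρV e))
  have H : uO h ρ = ⊤ := by
    rw [eq_top_iff]
    intro y _
    obtain ⟨U, e, hx, he⟩ := (isInvertible_iff L).1 hL (h y)
    obtain ⟨A, hA, hxA, hAU⟩ := (Opens.isBasis_iff_nbhd.1 X.isBasis_affineOpens) hx
    have h1 : V₀.ι y ∈ V.basicOpen (B.tau A hA (res L hAU e)) := by
      rw [← inf_eq_basicOpen B V₀ hV₀ hA (he.res hAU)]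
      exact ⟨y.2, hxA⟩
    have h2 : y ∈ V₀.ι ⁻¹ᵁ V.basicOpen (B.tau A hA (res L hAU e)) := h1
    rw [Scheme.preimage_basicOpen] at h2
    refine (mem_uO_iff hxA (he.res hAU)).2 ?_
    rw [hva A hA]
    exact h2
  obtain ⟨ρ', hρ'⟩ := Glue.exists_rho' θ h ρ hL H
  refine ⟨phi h ρ ρ', fun A x => ?_, fun A s y hs => ?_⟩
  all_goals
    obtain ⟨A, hA, e, e', he, he', hp⟩ := A
    have hu1 : va h ρ e * va h ρ' e' = 1 := by rw [hρ', hp, map_one]
    let g : Γ(V, π ⁻¹ᵁ A) →+* Γ(V₀, h ⁻¹ᵁ A) := (V₀.ι.app (π ⁻¹ᵁ A)).hom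
    let u : Γ(V₀, h ⁻¹ᵁ A)ˣ := ⟨va h ρ e, va h ρ' e', hu1, by rw [mul_comm]; exact hu1⟩
    have hu : (u : Γ(V₀, h ⁻¹ᵁ A)) = (V₀.ι.app (π ⁻¹ᵁ A)).hom (B.tau A hA e) := hva A hA e
    have hgen := va_gen h ρ ρ' (e := e) (e' := e') u rfl rfl
    have hD := inf_eq_basicOpen B V₀ hV₀ hA he
    have hsmul : ∀ (n : ℤ) (a : Γ(X, A)), toFun h A ((phi h ρ ρ' n).app A (a • gen e e' n)) =
        g ((π.app A).hom a) * ((u ^ n : Γ(V₀, h ⁻¹ᵁ A)ˣ) : Γ(V₀, h ⁻¹ᵁ A)) := by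
      intro n a
      rw [← hgen n]
      refine (va_smul h (phi h ρ ρ' n) a (gen e e' n)).trans ?_
      congr 1
  · obtain ⟨s, a, hx⟩ := exists_laurent (π.app A).hom (B.tau A hA e) (B.bij A hA e he) g
      (surj_open V₀ _ (hA.preimage π) _ hD) (fun F hF => inj_open V₀ _ (hA.preimage π) _ hD F hF) u hu (toFun h A x)
    refine ⟨s, fun n => a n • gen e e' n, ?_⟩
    apply (toFun h A).injective
    rw [hx, map_sum]
    exact Finset.sum_congr rfl fun n _ => (hsmul n (a n)).symm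
  · choose a ha using fun n => (isGen_gen he he' n).exists_eq (y n)
    have h1 := eq_zero_of_sum (π.app A).hom (B.tau A hA e) (B.bij A hA e he) g
      (surj_open V₀ _ (hA.preimage π) _ hD) (fun F hF => inj_open V₀ _ (hA.preimage π) _ hD F hF) u hu s a (by
        have h2 := congrArg (toFun h A) hs
        rw [map_sum, map_zero] at h2
        refine Eq.trans (Finset.sum_congr rfl fun n _ => ?_) h2
        exact (hsmul n (a n)).symm.trans (by rw [← ha n]))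
    intro n hn
    rw [ha n, h1 n hn, zero_smul]

include B hV₀ hL hL' θ in
/-- **Cohomology of a line bundle minus the zero section.** -/
theorem subsingleton_HH_iff [CompactSpace X] [QuasiSeparatedSpace X] (d : ℕ) :
    Subsingleton (Coh.HH V₀ (Coh.structureModule V₀) d) ↔
      ∀ n : ℤ, Subsingleton (Coh.HH X (Npow L L' n) d) := by
  obtain ⟨φ, hs, hi⟩ := exists_dec B V₀ hV₀ hL hL' θ
  have h1 := isAffineHom_compl B V₀ hV₀ hL
  have h2 : Coh.IsQCoh (Coh.structureModule (V₀ : Scheme.{u})) := Groth.Agent.Ega2.QCohLocal.isQCoh_structureModule _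
  obtain ⟨e⟩ := Groth.Agent.S0012.result (V₀.ι ≫ π) (Coh.structureModule (V₀ : Scheme.{u})) d
  rw [e.toEquiv.subsingleton_congr]
  refine (Dec.subsingleton_HH_iff_of_dec (F := Oalg (V₀.ι ≫ π)) (fun n : ULift.{u} ℤ => Npow L L' n.down)
    (fun n => Groth.Agent.Ega2.QCohLocal.isQCoh_of_isInvertible (isInvertible_Npow hL hL' n.down))
    (fun n => φ n.down) (fun A : Good θ => A.1) (isBasis_good hL hL' θ) (fun A => A.2.1) ?_ ?_ d).trans
    ⟨fun h n => h ⟨n⟩, fun h n => h n.down⟩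
  · intro A x
    obtain ⟨s, y, rfl⟩ := hs A x
    refine ⟨s.map Equiv.ulift.symm.toEmbedding, fun n => y n.down, ?_⟩
    rw [Finset.sum_map]
    rfl
  · intro A s y h n hn
    refine hi A (s.map Equiv.ulift.toEmbedding) (fun n => y ⟨n⟩) ?_ n.down ?_
    · rw [Finset.sum_map]
      exact h
    · rw [Finset.mem_map]
      exact ⟨n, hn, rfl⟩

end main

end geom

end Groth.Agent.Cone.K859.Laur

end
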